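import Cfsg.Agent.Lib.ExtendExtraTwo.Basic

/-!
The centre of the span of a fixed-point-free odd group of automorphisms, with its adjoint involution, and the
cases it gives for a `2`-group normalising the odd group.
-/

set_option autoImplicit false

namespace Cfsg.Agent.Lib.ExtendExtraTwo

open Subgroup Cfsg.Agent.Lib.ExtraStruct

universe u v

variable {E : Type u} [Group E] [hE : Fact (ExtraLike 2 E)] [Finite E]

/-- Adjointness for the commutator form. -/
def IsAdj (a b : AddMonoid.End (M E)) : Prop := ∀ x y, form (a x) y = form x (b y)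

omit hE in
theorem finite_End : Finite (AddMonoid.End (M E)) :=
  Finite.of_injective (fun a : AddMonoid.End (M E) => (a : M E → M E)) DFunLike.coe_injective

theorem IsAdj.symm {a b : AddMonoid.End (M E)} (h : IsAdj a b) : IsAdj b a := fun x y => by
  rw [form_symm, ← h, form_symm]

theorem IsAdj.unique {a b c : AddMonoid.End (M E)} (h : IsAdj a b) (h' : IsAdj a c) : b = c := by
  refine AddMonoidHom.ext fun y => ?_
  have h1 : b y + c y = 0 := by
    refine form_nondeg fun x => ?_
    rw [form_symm, form_add_right, ← h, ← h']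
    exact CharTwo.add_self_eq_zero _
  exact (eq_neg_of_add_eq_zero_left h1).trans (neg_M _)

theorem isAdj_zero : IsAdj (0 : AddMonoid.End (M E)) 0 := fun x y => by
  show form (0 : M E) y = form x (0 : M E)
  rw [form_zero_left, form_zero_right]

theorem isAdj_one : IsAdj (1 : AddMonoid.End (M E)) 1 := fun _ _ => rfl

theorem IsAdj.add {a b c d : AddMonoid.End (M E)} (h : IsAdj a b) (h' : IsAdj c d) :
    IsAdj (a + c) (b + d) := fun x y => by
  show form (a x + c x) y = form x (b y + d y)
  rw [form_add_left, form_add_right, h, h']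

theorem IsAdj.mul {a b c d : AddMonoid.End (M E)} (h : IsAdj a b) (h' : IsAdj c d) :
    IsAdj (a * c) (d * b) := fun x y => by
  show form (a (c x)) y = form x (d (b y))
  rw [h, h']

theorem isAdj_sum {ι : Type*} (s : Finset ι) (a b : ι → AddMonoid.End (M E))
    (h : ∀ i ∈ s, IsAdj (a i) (b i)) : IsAdj (∑ i ∈ s, a i) (∑ i ∈ s, b i) := by
  classical
  induction s using Finset.induction_on with
  | empty => simpa using isAdj_zero
  | insert i s hi ih =>
    rw [Finset.sum_insert hi, Finset.sum_insert hi]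
    exact (h i (Finset.mem_insert_self i s)).add (ih fun j hj => h j (Finset.mem_insert_of_mem hj))

theorem isAdj_act (α : MulAut E) : IsAdj (act α) (act α⁻¹) := fun x y => by
  conv_lhs => rw [← act_apply_inv α y]
  rw [form_act]

/-- Conjugation of an endomorphism by an automorphism. -/
noncomputable def cj (g : MulAut E) (a : AddMonoid.End (M E)) : AddMonoid.End (M E) :=
  act g * a * act g⁻¹

theorem act_mul_inv (g : MulAut E) : act g * act g⁻¹ = 1 := by rw [← map_mul, mul_inv_cancel, map_one]

theorem act_inv_mul (g : MulAut E) : act g⁻¹ * act g = 1 := by rw [← map_mul, inv_mul_cancel, map_one]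

theorem cj_mul (g : MulAut E) (a b : AddMonoid.End (M E)) : cj g (a * b) = cj g a * cj g b := by
  simp only [cj, mul_assoc]
  rw [← mul_assoc (act g⁻¹) (act g), act_inv_mul, one_mul]

theorem cj_add (g : MulAut E) (a b : AddMonoid.End (M E)) : cj g (a + b) = cj g a + cj g b := by
  simp only [cj, mul_add, add_mul]

theorem cj_one (g : MulAut E) : cj g 1 = 1 := by rw [cj, mul_one, act_mul_inv]

theorem cj_zero (g : MulAut E) : cj g 0 = 0 := by rw [cj, mul_zero, zero_mul]

theorem cj_pow (g : MulAut E) (a : AddMonoid.End (M E)) (n : ℕ) : cj g (a ^ n) = cj g a ^ n := by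
  induction n with
  | zero => rw [pow_zero, pow_zero, cj_one]
  | succ n ih => rw [pow_succ, pow_succ, cj_mul, ih]

theorem cj_sum (g : MulAut E) {ι : Type*} (s : Finset ι) (a : ι → AddMonoid.End (M E)) :
    cj g (∑ i ∈ s, a i) = ∑ i ∈ s, cj g (a i) := by
  simp only [cj, Finset.mul_sum, Finset.sum_mul]

theorem cj_cj (g h : MulAut E) (a : AddMonoid.End (M E)) : cj g (cj h a) = cj (g * h) a := by
  simp only [cj, mul_inv_rev, map_mul, mul_assoc]

theorem cj_one_left (a : AddMonoid.End (M E)) : cj 1 a = a := by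
  rw [cj, inv_one, map_one, one_mul, mul_one]

theorem cj_injective (g : MulAut E) : Function.Injective (cj g) := fun a b h => by
  have := congrArg (cj g⁻¹) h
  rwa [cj_cj, cj_cj, inv_mul_cancel, cj_one_left, cj_one_left] at this

theorem IsAdj.cj {a b : AddMonoid.End (M E)} (h : IsAdj a b) (g : MulAut E) :
    IsAdj (cj g a) (ExtendExtraTwo.cj g b) := by
  have := ((isAdj_act g).mul h).mul (isAdj_act g⁻¹)
  simpa [ExtendExtraTwo.cj, inv_inv, mul_assoc] using this

variable (K : Subgroup (MulAut E))

/-- The ring spanned by `K`. -/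
noncomputable def kSpan : Subring (AddMonoid.End (M E)) := Subring.closure (act '' (K : Set (MulAut E)))

/-- The centre of the ring spanned by `K`. -/
noncomputable def coreAlg : Subring (AddMonoid.End (M E)) :=
  kSpan K ⊓ Subring.centralizer (act '' (K : Set (MulAut E)))

variable {K}

theorem commute_act_of_mem {a : AddMonoid.End (M E)} (ha : a ∈ coreAlg K) {k : MulAut E} (hk : k ∈ K) :
    act k * a = a * act k := Subring.mem_centralizer_iff.1 ha.2 _ ⟨k, hk, rfl⟩

theorem apply_act_of_mem {a : AddMonoid.End (M E)} (ha : a ∈ coreAlg K) {k : MulAut E} (hk : k ∈ K)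
    (m : M E) : a (act k m) = act k (a m) :=
  (congrArg (fun b : AddMonoid.End (M E) => b m) (commute_act_of_mem ha hk)).symm

theorem commute_of_mem_kSpan {a b : AddMonoid.End (M E)} (ha : a ∈ kSpan K)
    (hb : ∀ k ∈ K, act k * b = b * act k) : a * b = b * a := by
  have hle : kSpan K ≤ Subring.centralizer ({b} : Set (AddMonoid.End (M E))) := by
    refine Subring.closure_le.2 ?_
    rintro _ ⟨k, hk, rfl⟩
    refine Subring.mem_centralizer_iff.2 fun x hx => ?_
    rw [Set.mem_singleton_iff.1 hx]
    exact (hb k hk).symm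
  exact (Subring.mem_centralizer_iff.1 (hle ha) b rfl).symm

theorem coreAlg_comm {a b : AddMonoid.End (M E)} (ha : a ∈ coreAlg K) (hb : b ∈ coreAlg K) :
    a * b = b * a := commute_of_mem_kSpan ha.1 fun _ hk => commute_act_of_mem hb hk

theorem exists_adj {a : AddMonoid.End (M E)} (ha : a ∈ coreAlg K) :
    ∃ b ∈ coreAlg K, IsAdj a b := by
  have h : ∀ a ∈ kSpan K, ∃ b ∈ kSpan K, IsAdj a b := by
    intro a ha
    induction ha using Subring.closure_induction with
    | mem x hx =>
      obtain ⟨k, hk, rfl⟩ := hx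
      exact ⟨_, Subring.subset_closure ⟨k⁻¹, inv_mem hk, rfl⟩, isAdj_act k⟩
    | zero => exact ⟨0, zero_mem _, isAdj_zero⟩
    | one => exact ⟨1, one_mem _, isAdj_one⟩
    | add x y _ _ hx hy =>
      obtain ⟨b, hb, hb'⟩ := hx
      obtain ⟨c, hc, hc'⟩ := hy
      exact ⟨b + c, add_mem hb hc, hb'.add hc'⟩
    | neg x _ hx => rw [neg_End]; exact hx
    | mul x y _ _ hx hy =>
      obtain ⟨b, hb, hb'⟩ := hx
      obtain ⟨c, hc, hc'⟩ := hy
      exact ⟨c * b, mul_mem hc hb, hb'.mul hc'⟩
  obtain ⟨b, hb, hb'⟩ := h a ha.1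
  refine ⟨b, ⟨hb, Subring.mem_centralizer_iff.2 ?_⟩, hb'⟩
  rintro _ ⟨k, hk, rfl⟩
  have e1 := (isAdj_act k⁻¹).mul hb'
  have e2 := hb'.mul (isAdj_act k⁻¹)
  rw [inv_inv] at e1 e2
  rw [commute_act_of_mem ha (inv_mem hk)] at e1
  exact (IsAdj.unique e1 e2).symm

theorem cj_mem {g : MulAut E} (hg : ∀ k ∈ K, g * k * g⁻¹ ∈ K) {a : AddMonoid.End (M E)}
    (ha : a ∈ coreAlg K) : cj g a ∈ coreAlg K := by
  have hact : ∀ k, cj g (act k) = act (g * k * g⁻¹) := fun k => by rw [cj, map_mul, map_mul]
  refine ⟨?_, Subring.mem_centralizer_iff.2 ?_⟩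
  · let φ : AddMonoid.End (M E) →+* AddMonoid.End (M E) :=
      { toFun := cj g, map_one' := cj_one g, map_mul' := cj_mul g, map_zero' := cj_zero g,
        map_add' := cj_add g }
    have hle : kSpan K ≤ (kSpan K).comap φ := by
      refine Subring.closure_le.2 ?_
      rintro _ ⟨k, hk, rfl⟩
      refine Subring.subset_closure ⟨g * k * g⁻¹, hg k hk, (hact k).symm⟩
    exact hle ha.1
  · rintro _ ⟨k, hk, rfl⟩
    obtain ⟨k', hk', rfl⟩ : ∃ k' ∈ K, g * k' * g⁻¹ = k := by
      have : Function.Surjective fun k' : K => (⟨g * k' * g⁻¹, hg k' k'.2⟩ : K) :=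
        Finite.injective_iff_surjective.1 fun a b h => by
          have h' := congrArg (fun x : K => (x : MulAut E)) h
          exact Subtype.ext (mul_left_cancel (mul_right_cancel h'))
      obtain ⟨k', h⟩ := this ⟨k, hk⟩
      exact ⟨k', k'.2, congrArg Subtype.val h⟩
    rw [← hact, ← cj_mul, ← cj_mul, commute_act_of_mem ha hk']

/-- The centre of the span has no nilpotent elements. -/
theorem reduced (hK : FPF K) {a : AddMonoid.End (M E)} (ha : a ∈ coreAlg K) (h2 : a * a = 0) :
    a = 0 := by
  classical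
  let := Fintype.ofFinite K
  let _ : Module (ZMod 2) (M E) := moduleM
  let aL : M E →ₗ[ZMod 2] M E := (a : M E →+ M E).toZModLinearMap 2
  obtain ⟨g, hg⟩ := aL.rangeRestrict.exists_rightInverse_of_surjective aL.range_rangeRestrict
  obtain ⟨h, hh⟩ := LinearMap.exists_extend g
  have hah : ∀ m, a (h (a m)) = a m := by
    intro m
    have h1 : h (a m) = g ⟨aL m, LinearMap.mem_range_self aL m⟩ :=
      LinearMap.congr_fun hh (⟨aL m, LinearMap.mem_range_self aL m⟩ : LinearMap.range aL)
    have h2 := LinearMap.congr_fun hg (⟨aL m, LinearMap.mem_range_self aL m⟩ : LinearMap.range aL)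
    rw [h1]
    exact congrArg Subtype.val h2
  let hA : AddMonoid.End (M E) := h.toAddMonoidHom
  have haha : a * hA * a = a := AddMonoidHom.ext hah
  let H : AddMonoid.End (M E) := ∑ k : K, act (k : MulAut E) * hA * act (k : MulAut E)⁻¹
  have hH : ∀ k ∈ K, act k * H = H * act k := by
    intro g hg'
    have e : cj g H = H := by
      simp only [H, cj_sum]
      refine Fintype.sum_equiv (Equiv.mulLeft (⟨g, hg'⟩ : K)) _ _ fun k => ?_
      simp [cj, mul_assoc]
    have h3 := congrArg (fun x => x * act g) e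
    simp only [cj, mul_assoc, act_inv_mul, mul_one] at h3
    exact h3
  have h0 : a * H * a = 0 := by
    rw [commute_of_mem_kSpan ha.1 hH, mul_assoc, h2, mul_zero]
  have h1 : a * H * a = a := by
    have hk : ∀ k : K, a * (act (k : MulAut E) * hA * act (k : MulAut E)⁻¹) * a = a := by
      intro k
      rw [show a * (act (k : MulAut E) * hA * act (k : MulAut E)⁻¹) * a
        = (a * act (k : MulAut E)) * hA * (act (k : MulAut E)⁻¹ * a) by simp only [mul_assoc],
        ← commute_act_of_mem ha k.2, commute_act_of_mem ha (inv_mem k.2),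
        show act (k : MulAut E) * a * hA * (a * act (k : MulAut E)⁻¹)
        = act (k : MulAut E) * (a * hA * a) * act (k : MulAut E)⁻¹ by simp only [mul_assoc],
        haha, commute_act_of_mem ha k.2, mul_assoc, act_mul_inv, mul_one]
    simp only [H, Finset.mul_sum, Finset.sum_mul, hk, Finset.sum_const, Finset.card_univ,
      ← Nat.card_eq_fintype_card]
    obtain ⟨j, hj⟩ := hK.odd
    rw [hj, add_smul, one_smul, mul_smul, two_nsmul, add_self_End, zero_add]
  rw [← h1, h0]

theorem reduced_pow (hK : FPF K) {a : AddMonoid.End (M E)} (ha : a ∈ coreAlg K) :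
    ∀ n : ℕ, a ^ n = 0 → a = 0 := by
  intro n
  induction n using Nat.strong_induction_on with
  | _ n ih =>
    intro hn
    match n, hn with
    | 0, hn =>
      rw [pow_zero] at hn
      rw [← mul_one a, hn, mul_zero]
    | 1, hn => rwa [pow_one] at hn
    | m + 2, hn =>
      refine ih (m + 1) (by omega) (reduced hK (pow_mem ha _) ?_)
      rw [← pow_add, show m + 1 + (m + 1) = (m + 2) + m by omega, pow_add, hn, zero_mul]

/-- Not every element is self-adjoint. -/
theorem not_all_selfAdj (hK : FPF K) (hM : ∃ m : M E, m ≠ 0) :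
    ¬ ∀ a ∈ coreAlg K, IsAdj a a := by
  classical
  intro hall
  let := Fintype.ofFinite K
  let cs : ConjClasses K → AddMonoid.End (M E) := fun C =>
    ∑ k ∈ Finset.univ.filter (fun k : K => ConjClasses.mk k = C), act (k : MulAut E)
  have hmem : ∀ C, cs C ∈ coreAlg K := by
    intro C
    refine ⟨sum_mem fun k _ => Subring.subset_closure ⟨(k : MulAut E), k.2, rfl⟩,
      Subring.mem_centralizer_iff.2 ?_⟩
    rintro _ ⟨g, hg, rfl⟩
    simp only [cs, Finset.mul_sum, Finset.sum_mul]
    refine Finset.sum_equiv (MulAut.conj (⟨g, hg⟩ : K)).toEquiv (fun k => ?_) (fun k _ => ?_)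
    · simp only [Finset.mem_filter, Finset.mem_univ, true_and]
      rw [(ConjClasses.mk_eq_mk_iff_isConj (a := (MulAut.conj (⟨g, hg⟩ : K)).toEquiv k)
        (b := k)).2 (isConj_iff.2 ⟨(⟨g, hg⟩ : K)⁻¹, by simp [mul_assoc]⟩)]
    · rw [← map_mul, ← map_mul]
      congr 1
      simp [mul_assoc]
  let ι : ConjClasses K → ConjClasses K :=
    Quotient.map (·⁻¹) fun a b (hab : IsConj a b) => by
      obtain ⟨c, hc⟩ := isConj_iff.1 hab
      exact isConj_iff.2 ⟨c, by rw [← hc]; group⟩
  have hι : ∀ k : K, ι (ConjClasses.mk k) = ConjClasses.mk k⁻¹ := fun k => rfl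
  have hι2 : ∀ C, ι (ι C) = C := by
    intro C
    obtain ⟨k, rfl⟩ := ConjClasses.exists_rep C
    rw [hι, hι, inv_inv]
  have hcs : ∀ C, cs (ι C) = cs C := by
    intro C
    refine IsAdj.unique ?_ (hall _ (hmem C))
    have h1 : ∑ k ∈ Finset.univ.filter (fun k : K => ConjClasses.mk k = C),
        act ((k : MulAut E))⁻¹ = cs (ι C) := by
      refine Finset.sum_equiv (Equiv.inv K) (fun k => ?_) (fun k _ => ?_)
      · simp only [Finset.mem_filter, Finset.mem_univ, true_and, Equiv.inv_apply, ← hι]
        exact ⟨fun h => by rw [h], fun h => by rw [← hι2 (ConjClasses.mk k), h, hι2]⟩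
      · simp
    rw [← h1]
    exact isAdj_sum _ _ _ fun k _ => isAdj_act _
  have htot : ∑ C : ConjClasses K, cs C = 0 := by
    simp only [cs]
    rw [Finset.sum_fiberwise]
    refine AddMonoidHom.ext fun m => ?_
    exact (map_sum (AddMonoidHom.eval (N := M E) m) _ _).trans (sum_act_eq_zero hK m)
  have hrest : ∑ C ∈ Finset.univ.erase (ConjClasses.mk (1 : K)), cs C = 0 := by
    refine Finset.sum_involution (fun C _ => ι C) (fun C _ => ?_) (fun C hC _ => ?_)
      (fun C hC => ?_) (fun C _ => hι2 C)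
    · rw [hcs, add_self_End]
    · obtain ⟨k, rfl⟩ := ConjClasses.exists_rep C
      rw [hι]
      intro h
      obtain ⟨g, hg⟩ := isConj_iff.1 (ConjClasses.mk_eq_mk_iff_isConj.1 h).symm
      exact (Finset.mem_erase.1 hC).1 (by rw [eq_one_of_conj_inv hK.odd hg])
    · refine Finset.mem_erase.2 ⟨fun h => (Finset.mem_erase.1 hC).1 ?_, Finset.mem_univ _⟩
      rw [← hι2 C, h, hι, inv_one]
  have h1 : cs (ConjClasses.mk (1 : K)) = 1 := by
    have hs : Finset.univ.filter (fun k : K => ConjClasses.mk k = ConjClasses.mk (1 : K)) = {1} := by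
      ext k
      simp [ConjClasses.mk_eq_mk_iff_isConj]
    simp only [cs, hs, Finset.sum_singleton, OneMemClass.coe_one, map_one]
  rw [← Finset.add_sum_erase _ _ (Finset.mem_univ (ConjClasses.mk (1 : K))), hrest, h1,
    add_zero] at htot
  obtain ⟨m, hm⟩ := hM
  exact hm (congrArg (fun a : AddMonoid.End (M E) => a m) htot)

end Cfsg.Agent.Lib.ExtendExtraTwo
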