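import Mathlib
import Cfsg.Agent.Lib.ExtraTwo.Coord

/-!
An extraspecial `2`-group modulo its centre as a space over `F₂` with the commutator form, the squaring map and the
action of the automorphisms.
-/

set_option autoImplicit false

namespace Cfsg.Agent.Lib.ExtendExtraTwo

open Subgroup Cfsg.Agent.Lib.ExtraStruct Cfsg.Agent.Lib.ExtraTwoCoord
open scoped commutatorElement

universe u

variable {E : Type u} [Group E]

/-- The quotient by the centre, written additively. -/
abbrev M (E : Type u) [Group E] := Additive (E ⧸ center E)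

/-- The projection to `M E`. -/
def mk (x : E) : M E := Additive.ofMul (x : E ⧸ center E)

theorem mk_mul (x y : E) : mk (x * y) = mk x + mk y := rfl

theorem mk_one : mk (1 : E) = 0 := rfl

theorem mk_surjective : Function.Surjective (mk (E := E)) := fun m => by
  obtain ⟨x, hx⟩ := QuotientGroup.mk_surjective (Additive.toMul m)
  exact ⟨x, congrArg Additive.ofMul hx⟩

theorem mk_eq_zero {x : E} : mk x = 0 ↔ x ∈ center E := QuotientGroup.eq_one_iff x

theorem mk_eq_mk {x y : E} : mk x = mk y ↔ x⁻¹ * y ∈ center E := QuotientGroup.eq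

/-- A lift to `E`. -/
noncomputable def lift (m : M E) : E := Function.surjInv mk_surjective m

@[simp] theorem mk_lift (m : M E) : mk (lift m) = m := Function.surjInv_eq mk_surjective m

section Struct

variable [hE : Fact (ExtraLike 2 E)]

omit hE in
theorem fact_two : Fact (Nat.Prime 2) := ⟨Nat.prime_two⟩

attribute [local instance] fact_two

instance instAddCommGroupM : AddCommGroup (M E) :=
  { (inferInstance : AddGroup (M E)) with
    add_comm := fun a b => by
      obtain ⟨x, rfl⟩ := mk_surjective a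
      obtain ⟨y, rfl⟩ := mk_surjective b
      rw [← mk_mul, ← mk_mul, mk_eq_mk, mul_inv_rev]
      have h := hE.out.comm_mem y⁻¹ x⁻¹
      rw [commutatorElement_def, inv_inv, inv_inv] at h
      rwa [← mul_assoc] }

theorem add_self_M (m : M E) : m + m = 0 := by
  obtain ⟨x, rfl⟩ := mk_surjective m
  rw [← mk_mul, mk_eq_zero, ← sq]
  exact hE.out.pow_mem x

theorem neg_M (m : M E) : -m = m := neg_eq_of_add_eq_zero_left (add_self_M m)

/-- `M E` as a space over `F₂`. -/
noncomputable abbrev moduleM : Module (ZMod 2) (M E) :=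
  AddCommGroup.zmodModule (n := 2) fun m => by rw [two_nsmul]; exact add_self_M m

theorem add_self_End (a : AddMonoid.End (M E)) : a + a = 0 :=
  AddMonoidHom.ext fun m => add_self_M (a m)

theorem neg_End (a : AddMonoid.End (M E)) : -a = a := neg_eq_of_add_eq_zero_left (add_self_End a)

variable [Finite E]

theorem bit_comm_congr {x x' y y' : E} (hx : mk x = mk x') (hy : mk y = mk y') :
    bit ⁅x, y⁆ = bit ⁅x', y'⁆ := by
  have h := hE.out
  obtain ⟨c, hc, rfl⟩ : ∃ c ∈ center E, x' = x * c := ⟨x⁻¹ * x', mk_eq_mk.1 hx, by group⟩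
  obtain ⟨d, hd, rfl⟩ : ∃ d ∈ center E, y' = y * d := ⟨y⁻¹ * y', mk_eq_mk.1 hy, by group⟩
  have h0 : ∀ {c : E}, c ∈ center E → ∀ w, bit ⁅c, w⁆ = 0 := fun hc w =>
    bit_eq_zero.2 (commutatorElement_eq_one_iff_mul_comm.2 (mem_center_iff.1 hc w).symm)
  rw [bit_comm_mul_left h, bit_comm_mul_right h, h0 hc, bit_comm_symm h x d, h0 hd, add_zero,
    add_zero]

/-- The commutator form. -/
noncomputable def form (a b : M E) : ZMod 2 := bit ⁅lift a, lift b⁆

theorem form_mk (x y : E) : form (mk x) (mk y) = bit ⁅x, y⁆ :=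
  bit_comm_congr (mk_lift _) (mk_lift _)

theorem form_add_left (a b c : M E) : form (a + b) c = form a c + form b c := by
  obtain ⟨x, rfl⟩ := mk_surjective a
  obtain ⟨y, rfl⟩ := mk_surjective b
  obtain ⟨w, rfl⟩ := mk_surjective c
  rw [← mk_mul, form_mk, form_mk, form_mk, bit_comm_mul_left hE.out]

theorem form_symm (a b : M E) : form a b = form b a := bit_comm_symm hE.out _ _

theorem form_add_right (a b c : M E) : form a (b + c) = form a b + form a c := by
  rw [form_symm, form_add_left, form_symm b, form_symm c]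

theorem form_zero_left (b : M E) : form (0 : M E) b = 0 := by
  have h := form_add_left (0 : M E) 0 b
  rwa [add_zero, left_eq_add] at h

theorem form_zero_right (b : M E) : form b (0 : M E) = 0 := by rw [form_symm, form_zero_left]

theorem form_nondeg {a : M E} (h : ∀ b, form a b = 0) : a = 0 := by
  obtain ⟨x, rfl⟩ := mk_surjective a
  refine mk_eq_zero.2 (mem_center_iff.2 fun y => ?_)
  have h1 := h (mk y)
  rw [form_mk, bit_eq_zero, commutatorElement_eq_one_iff_mul_comm] at h1
  exact h1.symm

/-- The squaring map. -/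
noncomputable def qf (a : M E) : ZMod 2 := bit (lift a ^ 2)

theorem sq_congr {x x' : E} (hx : mk x = mk x') : x ^ 2 = x' ^ 2 := by
  have h := hE.out
  obtain ⟨c, hc, rfl⟩ : ∃ c ∈ center E, x' = x * c := ⟨x⁻¹ * x', mk_eq_mk.1 hx, by group⟩
  rw [(show Commute x c from mem_center_iff.1 hc x).mul_pow, sq c, center_sq h hc, mul_one]

theorem qf_mk (x : E) : qf (mk x) = bit (x ^ 2) := by rw [qf, sq_congr (mk_lift (mk x))]

theorem qf_add (a b : M E) : qf (a + b) = qf a + qf b + form a b := by
  obtain ⟨x, rfl⟩ := mk_surjective a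
  obtain ⟨y, rfl⟩ := mk_surjective b
  rw [← mk_mul, qf_mk, qf_mk, qf_mk, form_mk, bit_sq_mul hE.out]

theorem aut_center (α : MulAut E) {c : E} (hc : c ∈ center E) : α c = c := by
  rcases eq_or_ne c 1 with rfl | hc1
  · exact map_one α
  refine eq_of_mem_center_two hE.out ?_ (fun h => hc1 ((MulEquiv.map_eq_one_iff α).1 h)) hc hc1
  refine mem_center_iff.2 fun y => ?_
  obtain ⟨w, rfl⟩ := α.surjective y
  rw [← map_mul, ← map_mul, mem_center_iff.1 hc w]

theorem aut_congr (α : MulAut E) {x y : E} (h : mk x = mk y) : mk (α x) = mk (α y) := by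
  rw [mk_eq_mk] at h ⊢
  rw [← map_inv, ← map_mul, aut_center α h]
  exact h

/-- The action of the automorphisms on `M E`. -/
noncomputable def act : MulAut E →* AddMonoid.End (M E) where
  toFun α := AddMonoidHom.mk' (fun m => mk (α (lift m))) fun a b => by
    rw [← mk_mul, ← map_mul]
    exact aut_congr α (by rw [mk_mul, mk_lift, mk_lift, mk_lift])
  map_one' := AddMonoidHom.ext fun m => mk_lift m
  map_mul' α β := AddMonoidHom.ext fun m => by
    show mk (α (β (lift m))) = mk (α (lift (mk (β (lift m)))))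
    exact aut_congr α (mk_lift _).symm

theorem act_mk (α : MulAut E) (x : E) : act α (mk x) = mk (α x) :=
  aut_congr α (mk_lift _)

theorem act_mul_apply (α β : MulAut E) (m : M E) : act (α * β) m = act α (act β m) :=
  congrArg (fun a : AddMonoid.End (M E) => a m) (map_mul act α β)

theorem act_one_apply (m : M E) : act (1 : MulAut E) m = m :=
  congrArg (fun a : AddMonoid.End (M E) => a m) (map_one (act (E := E)))

theorem act_inv_apply (α : MulAut E) (m : M E) : act α⁻¹ (act α m) = m := by
  rw [← act_mul_apply, inv_mul_cancel, act_one_apply]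

theorem act_apply_inv (α : MulAut E) (m : M E) : act α (act α⁻¹ m) = m := by
  rw [← act_mul_apply, mul_inv_cancel, act_one_apply]

theorem form_act (α : MulAut E) (a b : M E) : form (act α a) (act α b) = form a b := by
  obtain ⟨x, rfl⟩ := mk_surjective a
  obtain ⟨y, rfl⟩ := mk_surjective b
  rw [act_mk, act_mk, form_mk, form_mk, ← map_commutatorElement,
    aut_center α (hE.out.comm_mem x y)]

theorem qf_act (α : MulAut E) (a : M E) : qf (act α a) = qf a := by
  obtain ⟨x, rfl⟩ := mk_surjective a
  rw [act_mk, qf_mk, qf_mk, ← map_pow, aut_center α (hE.out.pow_mem x)]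

/-- An odd group of automorphisms without fixed points on `M E`. -/
structure FPF (K : Subgroup (MulAut E)) : Prop where
  odd : Odd (Nat.card K)
  fixed : ∀ m : M E, (∀ k ∈ K, act k m = m) → m = 0

variable {K : Subgroup (MulAut E)}

theorem sum_act_eq_zero (hK : FPF K) [Fintype K] (m : M E) : ∑ k : K, act (k : MulAut E) m = 0 := by
  refine hK.fixed _ fun g hg => ?_
  rw [map_sum]
  exact Fintype.sum_equiv (Equiv.mulLeft (⟨g, hg⟩ : K)) (fun k : K => act g (act (k : MulAut E) m))
    (fun k : K => act (k : MulAut E) m) fun k => (act_mul_apply g (k : MulAut E) m).symm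

theorem functional_eq_zero (hK : FPF K) (ℓ : M E →+ ZMod 2)
    (h : ∀ k ∈ K, ∀ m, ℓ (act k m) = ℓ m) : ℓ = 0 := by
  classical
  let := Fintype.ofFinite K
  refine AddMonoidHom.ext fun m => ?_
  have h1 := congrArg ℓ (sum_act_eq_zero hK m)
  rw [map_sum, map_zero, Finset.sum_congr rfl fun (k : K) _ => h (k : MulAut E) k.2 m, Finset.sum_const,
    Finset.card_univ, nsmul_eq_mul, ← Nat.card_eq_fintype_card] at h1
  rw [ZMod.natCast_eq_one_iff_odd.2 hK.odd, one_mul] at h1
  exact h1

end Struct

/-- In a group of odd order only the identity is conjugate to its inverse. -/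
theorem eq_one_of_conj_inv {K : Type*} [Group K] [Finite K] (hodd : Odd (Nat.card K)) {g k : K}
    (h : g * k * g⁻¹ = k⁻¹) : k = 1 := by
  have hk : Odd (orderOf k) := hodd.of_dvd_nat (orderOf_dvd_natCard k)
  have hg : Odd (orderOf g) := hodd.of_dvd_nat (orderOf_dvd_natCard g)
  have h2 : Commute (g ^ 2) k := by
    show g ^ 2 * k = k * g ^ 2
    have h4 : g * k⁻¹ * g⁻¹ = k := by
      have := congrArg (fun x => x⁻¹) h
      simpa [mul_assoc] using this
    have h3 : g ^ 2 * k * (g ^ 2)⁻¹ = k := by
      calc g ^ 2 * k * (g ^ 2)⁻¹ = g * (g * k * g⁻¹) * g⁻¹ := by rw [sq]; group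
        _ = k := by rw [h, h4]
    exact mul_inv_eq_iff_eq_mul.1 h3
  obtain ⟨j, hj⟩ := hg
  have hg' : g = (g ^ 2) ^ (j + 1) := by
    rw [← pow_mul, show 2 * (j + 1) = (2 * j + 1) + 1 by ring, pow_succ, ← hj, pow_orderOf_eq_one,
      one_mul]
  have hc : Commute g k := hg' ▸ h2.pow_left _
  rw [hc.eq, mul_assoc, mul_inv_cancel, mul_one] at h
  have h2' : k ^ 2 = 1 := by rw [sq]; exact eq_inv_iff_mul_eq_one.1 h
  have hdvd := orderOf_dvd_of_pow_eq_one h2'
  rcases (Nat.dvd_prime Nat.prime_two).1 hdvd with e | e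
  · exact orderOf_eq_one_iff.1 e
  · rw [e] at hk
    exact absurd hk (by decide)

end Cfsg.Agent.Lib.ExtendExtraTwo
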