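import Cfsg.Agent.Lib.ExtendExtraTwo.Algebra

/-!
For a `2`-group normalising a fixed-point-free odd group: an invariant orthogonal idempotent, two interchanged
orthogonal halves, a dual pair of idempotents, or a normalised fixed-point-free isometry of prime order.
-/

set_option autoImplicit false

namespace Cfsg.Agent.Lib.ExtendExtraTwo

open Subgroup Cfsg.Agent.Lib.ExtraStruct

universe u v

variable {E : Type u} [Group E] [hE : Fact (ExtraLike 2 E)] [Finite E] {K : Subgroup (MulAut E)}

theorem exists_pow_idem (a : AddMonoid.End (M E)) : ∃ n, 0 < n ∧ a ^ n * a ^ n = a ^ n := by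
  have := finite_End (E := E)
  obtain ⟨i, j, hij, hne⟩ : ∃ i j : ℕ, a ^ i = a ^ j ∧ i < j := by
    obtain ⟨i, j, hne, hij⟩ := Finite.exists_ne_map_eq_of_infinite fun n : ℕ => a ^ n
    rcases Nat.lt_or_gt_of_ne hne with h | h
    · exact ⟨i, j, hij, h⟩
    · exact ⟨j, i, hij.symm, h⟩
  have key : ∀ k, i ≤ k → ∀ t : ℕ, a ^ (k + t * (j - i)) = a ^ k := by
    intro k hk t
    induction t with
    | zero => rw [zero_mul, add_zero]
    | succ t ih =>
      rw [show k + (t + 1) * (j - i) = (k - i + t * (j - i)) + j by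
          rw [add_mul, one_mul]; omega, pow_add, ← hij, ← pow_add,
        show k - i + t * (j - i) + i = k + t * (j - i) by omega, ih]
  refine ⟨(i + 1) * (j - i), Nat.mul_pos (by omega) (by omega), ?_⟩
  rw [← pow_add]
  exact key _ (le_trans (Nat.le_succ i) (Nat.le_mul_of_pos_right _ (by omega))) _

variable {S : Type v} [Group S] [Finite S]

/-- An isometry of prime order without fixed points, normalised by `S`. -/
structure FieldCase (K : Subgroup (MulAut E)) (f : S →* MulAut E) (q : ℕ)
    (u : AddMonoid.End (M E)) : Prop where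
  prime : q.Prime
  mem : u ∈ coreAlg K
  ne_one : u ≠ 1
  pow_eq : u ^ q = 1
  form_eq : ∀ x y, form (u x) (u y) = form x y
  conj : ∀ x, ∃ j : ℕ, cj (f x) u = u ^ j
  free : ∀ j : ℕ, u ^ j ≠ 1 → ∀ m, (u ^ j) m = m → m = 0

/-- An orthogonal idempotent of the core algebra. -/
structure Proj (K : Subgroup (MulAut E)) (e : AddMonoid.End (M E)) : Prop where
  mem : e ∈ coreAlg K
  idem : e * e = e
  adj : IsAdj e e

variable (hK : FPF K) (hM : ∃ m : M E, m ≠ 0) (hS : IsPGroup 2 S) (f : S →* MulAut E)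
  (hnorm : ∀ (x : S), ∀ k ∈ K, f x * k * (f x)⁻¹ ∈ K)
include hK hM hS hnorm

omit hK hM hS in
theorem Proj.conj {e : AddMonoid.End (M E)} (he : Proj K e) (x : S) : Proj K (cj (f x) e) :=
  ⟨cj_mem (hnorm x) he.mem, by rw [← cj_mul, he.idem], he.adj.cj _⟩

omit hK hM in
/-- With a non-trivial orthogonal idempotent. -/
theorem cases_of_proj {e₀ : AddMonoid.End (M E)} (he₀ : Proj K e₀) (h0 : e₀ ≠ 0) (h1 : e₀ ≠ 1) :
    (∃ e, Proj K e ∧ e ≠ 0 ∧ e ≠ 1 ∧ ∀ x, cj (f x) e = e) ∨
    (∃ e, ∃ S₁ : Subgroup S, Proj K e ∧ e ≠ 0 ∧ e ≠ 1 ∧ S₁.index = 2 ∧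
      (∀ x ∈ S₁, cj (f x) e = e) ∧ ∀ x ∉ S₁, e + cj (f x) e = 1) := by
  classical
  have := finite_End (E := E)
  let ι : AddMonoid.End (M E) → ℕ := fun e => Nat.card (Set.range e)
  obtain ⟨e, ⟨he, hne⟩, hmin⟩ := Set.exists_min_image {e | Proj K e ∧ e ≠ 0} ι (Set.toFinite _)
    ⟨e₀, he₀, h0⟩
  -- minimality
  have habs : ∀ d, Proj K d → d * e = 0 ∨ d * e = e := by
    intro d hd
    by_cases hz : d * e = 0
    · exact Or.inl hz
    right
    have hpr : Proj K (d * e) := ⟨mul_mem hd.mem he.mem, by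
      rw [mul_assoc, ← mul_assoc e, coreAlg_comm he.mem hd.mem, mul_assoc, he.idem, ← mul_assoc,
        hd.idem], by
      have := hd.adj.mul he.adj
      rwa [coreAlg_comm he.mem hd.mem] at this⟩
    have hle := hmin _ ⟨hpr, hz⟩
    have hsub : Set.range (d * e) ⊆ Set.range e := by
      rintro _ ⟨m, rfl⟩
      exact ⟨d m, congrArg (fun a : AddMonoid.End (M E) => a m) (coreAlg_comm he.mem hd.mem)⟩
    have heq : Set.range (d * e) = Set.range e :=
      Set.eq_of_subset_of_ncard_le hsub (by simpa [ι, Nat.card_coe_set_eq] using hle) (Set.toFinite _)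
    refine AddMonoidHom.ext fun m => ?_
    obtain ⟨n, hn⟩ : e m ∈ Set.range (d * e) := heq ▸ ⟨m, rfl⟩
    have h2 : (d * e) ((d * e) n) = (d * e) n :=
      congrArg (fun a : AddMonoid.End (M E) => a n) hpr.idem
    rw [hn] at h2
    have h3 : (d * e) (e m) = (d * e) m :=
      congrArg (fun a : AddMonoid.End (M E) => a m) (show d * e * e = d * e by rw [mul_assoc, he.idem])
    exact h3.symm.trans h2
  have horth : ∀ x y : S, cj (f x) e ≠ cj (f y) e → cj (f x) e * cj (f y) e = 0 := by
    intro x y hxy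
    have hc : ∀ z : S, cj (f z) e = e ∨ cj (f z) e * e = 0 := by
      intro z
      rcases habs _ (he.conj f hnorm z) with h | h
      · exact Or.inr h
      left
      rcases habs _ (he.conj f hnorm z⁻¹) with h' | h'
      · exfalso
        apply hne
        have := congrArg (cj (f z)) h'
        rw [cj_mul, cj_cj, ← map_mul, mul_inv_cancel, map_one, cj_one_left, cj_zero,
          coreAlg_comm he.mem (cj_mem (hnorm z) he.mem), h] at this
        exact this
      · have := congrArg (cj (f z)) h'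
        rw [cj_mul, cj_cj, ← map_mul, mul_inv_cancel, map_one, cj_one_left,
          coreAlg_comm he.mem (cj_mem (hnorm z) he.mem), h] at this
        exact this.symm
    rcases hc (y⁻¹ * x) with h | h
    · refine absurd ?_ hxy
      have := congrArg (cj (f y)) h
      rwa [cj_cj, ← map_mul, mul_inv_cancel_left] at this
    · have := congrArg (cj (f y)) h
      rwa [cj_mul, cj_cj, ← map_mul, mul_inv_cancel_left, cj_zero] at this
  -- sums over parts of the orbit
  let sumOn : Finset (AddMonoid.End (M E)) → AddMonoid.End (M E) := fun O => ∑ a ∈ O, a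
  have hsum : ∀ O : Finset (AddMonoid.End (M E)), (∀ a ∈ O, ∃ x, cj (f x) e = a) →
      Proj K (sumOn O) ∧ ∀ a ∈ O, sumOn O * a = a := by
    intro O hO
    have hpr : ∀ a ∈ O, Proj K a := fun a ha => by
      obtain ⟨x, rfl⟩ := hO a ha
      exact he.conj f hnorm x
    have hmul : ∀ a ∈ O, sumOn O * a = a := by
      intro a ha
      rw [Finset.sum_mul, Finset.sum_eq_single_of_mem a ha, (hpr a ha).idem]
      intro b hb hba
      obtain ⟨x, rfl⟩ := hO b hb
      obtain ⟨y, rfl⟩ := hO a ha
      exact horth x y hba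
    refine ⟨⟨sum_mem fun a ha => (hpr a ha).mem, ?_, isAdj_sum O _ _ fun a ha => (hpr a ha).adj⟩, hmul⟩
    conv_lhs => rw [Finset.mul_sum]
    exact Finset.sum_congr rfl hmul
  let := Fintype.ofFinite S
  set O : Finset (AddMonoid.End (M E)) := Finset.univ.image fun x => cj (f x) e with hOdef
  have hO : ∀ a ∈ O, ∃ x, cj (f x) e = a := fun a ha => by
    obtain ⟨x, -, rfl⟩ := Finset.mem_image.1 ha
    exact ⟨x, rfl⟩
  have heO : e ∈ O := Finset.mem_image.2 ⟨1, Finset.mem_univ _, by rw [map_one, cj_one_left]⟩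
  obtain ⟨hfp, hfe⟩ := hsum O hO
  have hfix : ∀ x, cj (f x) (sumOn O) = sumOn O := by
    intro x
    simp only [sumOn, cj_sum]
    rw [← Finset.sum_image (f := fun a => a) (g := cj (f x)) ((cj_injective _).injOn)]
    congr 1
    ext a
    simp only [O, Finset.mem_image, Finset.mem_univ, true_and]
    constructor
    · rintro ⟨_, ⟨y, rfl⟩, rfl⟩
      exact ⟨x * y, by rw [map_mul, cj_cj]⟩
    · rintro ⟨y, rfl⟩
      exact ⟨_, ⟨x⁻¹ * y, rfl⟩, by rw [cj_cj, ← map_mul, mul_inv_cancel_left]⟩
  have hf0 : sumOn O ≠ 0 := fun h => hne (by rw [← hfe e heO, h, zero_mul])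
  by_cases hf1 : sumOn O = 1
  swap
  · exact Or.inl ⟨_, hfp, hf0, hf1, hfix⟩
  right
  -- the orbit has at least two members
  let St : Subgroup S :=
    { carrier := {x | cj (f x) e = e}
      one_mem' := by simp [cj_one_left]
      mul_mem' := fun {a b} ha hb => by
        simp only [Set.mem_setOf_eq] at *
        rw [map_mul, ← cj_cj, hb, ha]
      inv_mem' := fun {a} ha => by
        simp only [Set.mem_setOf_eq] at *
        conv_lhs => rw [← ha]
        rw [cj_cj, ← map_mul, inv_mul_cancel, map_one, cj_one_left] }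
  have hSt : St ≠ ⊤ := by
    intro h
    have hall : ∀ x, cj (f x) e = e := fun x => (show x ∈ St from h ▸ Subgroup.mem_top x)
    have hsingle : O = {e} := by
      ext a
      simp [O, hall, eq_comm]
    rw [hsingle] at hf1
    simp only [sumOn, Finset.sum_singleton] at hf1
    rcases habs e₀ he₀ with h | h <;> rw [hf1, mul_one] at h
    exacts [h0 h, h1 h]
  obtain ⟨S₁, hS₁, hle⟩ : ∃ S₁ : Subgroup S, IsCoatom S₁ ∧ St ≤ S₁ :=
    (eq_top_or_exists_le_coatom St).resolve_left hSt
  have : Fact (Nat.Prime 2) := ⟨Nat.prime_two⟩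
  have : Group.IsNilpotent S := hS.isNilpotent
  have hn : S₁.Normal := NormalizerCondition.normal_of_coatom S₁
    (normalizerCondition_of_isNilpotent (G := S)) hS₁
  have hidx : S₁.index = 2 := by
    obtain ⟨g, hg⟩ : ∃ g, g ∉ S₁ := by
      by_contra! h
      exact hS₁.1 (eq_top_iff.2 fun x _ => h x)
    have hsimple : IsSimpleGroup (S ⧸ S₁) := by
      refine { exists_pair_ne := ⟨g, 1, fun h => hg ((QuotientGroup.eq_one_iff g).1 h)⟩
               eq_bot_or_eq_top_of_normal := fun H _ => ?_ }
      rcases hS₁.le_iff.1 (QuotientGroup.le_comap_mk' S₁ H) with h | h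
      · right
        exact Subgroup.comap_injective (QuotientGroup.mk'_surjective S₁) (h.trans (Subgroup.comap_top _).symm)
      · left
        refine Subgroup.comap_injective (QuotientGroup.mk'_surjective S₁) ?_
        rw [h, MonoidHom.comap_bot, QuotientGroup.ker_mk']
    have hp2 : IsPGroup 2 (S ⧸ S₁) := hS.to_quotient S₁
    have : Group.IsNilpotent (S ⧸ S₁) := hp2.isNilpotent
    have hcomm : ∀ a b : S ⧸ S₁, a * b = b * a := by
      have hc : commutator (S ⧸ S₁) = ⊥ :=
        (IsSimpleGroup.eq_bot_or_eq_top_of_normal _ inferInstance).resolve_right fun h => by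
          exact Group.IsSolvable.commutator_lt_top_of_nontrivial (S ⧸ S₁) |>.ne h
      intro a b
      rw [← commutatorElement_eq_one_iff_mul_comm, ← Subgroup.mem_bot, ← hc]
      exact commutator_mem_commutator (Subgroup.mem_top a) (Subgroup.mem_top b)
    let _ : CommGroup (S ⧸ S₁) := { (inferInstance : Group (S ⧸ S₁)) with mul_comm := hcomm }
    have hprime := IsSimpleGroup.prime_card (α := S ⧸ S₁)
    obtain ⟨k, hk⟩ := IsPGroup.iff_card.1 hp2
    rw [hk] at hprime
    rw [Subgroup.index_eq_card, hk, hprime.eq_one_of_pow, pow_one]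
  set O₁ : Finset (AddMonoid.End (M E)) :=
    (Finset.univ.filter fun x => x ∈ S₁).image fun x => cj (f x) e with hO₁
  have hO₁O : ∀ a ∈ O₁, ∃ x, cj (f x) e = a := fun a ha => by
    obtain ⟨x, -, rfl⟩ := Finset.mem_image.1 ha
    exact ⟨x, rfl⟩
  obtain ⟨hp, hpe⟩ := hsum O₁ hO₁O
  have heO₁ : e ∈ O₁ := Finset.mem_image.2
    ⟨1, Finset.mem_filter.2 ⟨Finset.mem_univ _, one_mem _⟩, by rw [map_one, cj_one_left]⟩
  have hfix₁ : ∀ x ∈ S₁, cj (f x) (sumOn O₁) = sumOn O₁ := by
    intro x hx
    simp only [sumOn, cj_sum]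
    rw [← Finset.sum_image (f := fun a => a) (g := cj (f x)) ((cj_injective _).injOn)]
    congr 1
    ext a
    simp only [O₁, Finset.mem_image, Finset.mem_univ, true_and, Finset.mem_filter]
    constructor
    · rintro ⟨_, ⟨y, hy, rfl⟩, rfl⟩
      exact ⟨x * y, mul_mem hx hy, by rw [map_mul, cj_cj]⟩
    · rintro ⟨y, hy, rfl⟩
      exact ⟨_, ⟨x⁻¹ * y, mul_mem (inv_mem hx) hy, rfl⟩, by rw [cj_cj, ← map_mul, mul_inv_cancel_left]⟩
  have hout : ∀ x ∉ S₁, sumOn O₁ + cj (f x) (sumOn O₁) = 1 := by
    intro x hx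
    have hdisj : Disjoint O₁ (O₁.image (cj (f x))) := by
      rw [Finset.disjoint_left]
      intro a ha ha'
      simp only [O₁, Finset.mem_image, Finset.mem_univ, true_and, Finset.mem_filter] at ha ha'
      obtain ⟨y, hy, rfl⟩ := ha
      obtain ⟨_, ⟨w, hw, rfl⟩, h⟩ := ha'
      rw [cj_cj, ← map_mul] at h
      have h' := congrArg (cj (f y⁻¹)) h
      rw [cj_cj, cj_cj, ← map_mul, ← map_mul, inv_mul_cancel, map_one, cj_one_left] at h'
      have := hle (show y⁻¹ * (x * w) ∈ St from h')
      exact hx (by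
        have := mul_mem (mul_mem hy this) (inv_mem hw)
        simpa [mul_assoc] using this)
    have hunion : O₁ ∪ O₁.image (cj (f x)) = O := by
      ext a
      simp only [O₁, O, Finset.mem_union, Finset.mem_image, Finset.mem_univ, true_and, Finset.mem_filter]
      constructor
      · rintro (⟨y, -, rfl⟩ | ⟨_, ⟨y, -, rfl⟩, rfl⟩)
        exacts [⟨y, rfl⟩, ⟨x * y, by rw [map_mul, cj_cj]⟩]
      · rintro ⟨y, rfl⟩
        by_cases hy : y ∈ S₁
        · exact Or.inl ⟨y, hy, rfl⟩
        · refine Or.inr ⟨_, ⟨x⁻¹ * y, ?_, rfl⟩, by rw [cj_cj, ← map_mul, mul_inv_cancel_left]⟩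
          rw [Subgroup.mul_mem_iff_of_index_two hidx, inv_mem_iff]
          exact iff_of_false hx hy
    rw [← hf1, show sumOn O₁ + cj (f x) (sumOn O₁) = sumOn (O₁ ∪ O₁.image (cj (f x))) from ?_, hunion]
    simp only [sumOn, cj_sum]
    rw [Finset.sum_union hdisj, Finset.sum_image (cj_injective _).injOn]
  refine ⟨sumOn O₁, S₁, hp, fun h => hne (by rw [← hpe e heO₁, h, zero_mul]), fun h => ?_, hidx,
    hfix₁, hout⟩
  obtain ⟨x, hx⟩ : ∃ x, x ∉ S₁ := by
    by_contra! h'
    exact hS₁.1 (eq_top_iff.2 fun x _ => h' x)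
  have h2 := hout x hx
  rw [h, cj_one, add_self_End] at h2
  exact hne (by rw [← mul_one e, ← h2, mul_zero])

omit hS in
/-- Without a non-trivial orthogonal idempotent. -/
theorem cases_of_no_proj (hno : ∀ e, Proj K e → e = 0 ∨ e = 1) :
    (∃ e e', e ∈ coreAlg K ∧ e' ∈ coreAlg K ∧ e * e = e ∧ e' * e' = e' ∧ e * e' = 0 ∧ e + e' = 1 ∧
      IsAdj e e' ∧ e ≠ 0 ∧ e' ≠ 0 ∧ ∀ x, cj (f x) e = e ∨ cj (f x) e = e') ∨
    ∃ q u, FieldCase K f q u := by
  classical
  have := finite_End (E := E)
  by_cases hex : ∃ e ∈ coreAlg K, e * e = e ∧ e ≠ 0 ∧ e ≠ 1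
  · left
    obtain ⟨e, he, hee, he0, he1⟩ := hex
    obtain ⟨e', he', hadj⟩ := exists_adj he
    have hee' : e' * e' = e' := by
      have := hadj.mul hadj
      rw [hee] at this
      exact (hadj.unique this).symm
    have h00 : e * e' = 0 := by
      rcases hno (e * e') ⟨mul_mem he he', by
        rw [mul_assoc, ← mul_assoc e', coreAlg_comm he' he, mul_assoc, hee', ← mul_assoc, hee], by
        have := hadj.mul hadj.symm
        exact this⟩ with h | h
      · exact h
      · exact absurd (by rw [← mul_one e, ← h, ← mul_assoc, hee]) he1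
    have h11 : e + e' = 1 := by
      rcases hno (e + e') ⟨add_mem he he', by
        rw [add_mul, mul_add, mul_add, hee, hee', coreAlg_comm he' he, h00, add_zero, zero_add],
        by rw [add_comm]; simpa [add_comm] using hadj.add hadj.symm⟩ with h | h
      · exfalso
        have e2 : e' = e := by rw [eq_neg_of_add_eq_zero_left h, neg_End]
        rw [e2, hee] at h00
        exact he0 h00
      · exact h
    have he'0 : e' ≠ 0 := fun h => he1 (by rw [← h11, h, add_zero])
    refine ⟨e, e', he, he', hee, hee', h00, h11, hadj, he0, he'0, fun x => ?_⟩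
    set d := cj (f x) e
    have hd : d ∈ coreAlg K := cj_mem (hnorm x) he
    have hdd : d * d = d := by rw [← cj_mul, hee]
    obtain ⟨d', hd', hdadj⟩ := exists_adj hd
    -- each idempotent below `e` or `e'` is trivial
    have key : ∀ a a', a ∈ coreAlg K → a' ∈ coreAlg K → a * a = a → a * a' = 0 → a + a' = 1 →
        IsAdj a a' → d * a = 0 ∨ d * a = a := by
      intro a a' ha ha' haa hz hs hadj'
      have hd'd' : d' * d' = d' := by
        have := hdadj.mul hdadj
        rw [hdd] at this
        exact (hdadj.unique this).symm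
      have hda : d * a * (d * a) = d * a := by
        rw [mul_assoc, ← mul_assoc a, coreAlg_comm ha hd, mul_assoc, haa, ← mul_assoc, hdd]
      have ha'a' : a' * a' = a' := by
        have := hadj'.mul hadj'
        rw [haa] at this
        exact (hadj'.unique this).symm
      have hadj2 : IsAdj (d * a) (d' * a') := by
        have := hdadj.mul hadj'
        rwa [coreAlg_comm ha' hd'] at this
      have hcross : d * a * (d' * a') = 0 := by
        rw [mul_assoc, ← mul_assoc a, coreAlg_comm ha hd', mul_assoc, hz, mul_zero, mul_zero]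
      have hda' : d' * a' * (d' * a') = d' * a' := by
        rw [mul_assoc, ← mul_assoc a', coreAlg_comm ha' hd', mul_assoc, ha'a', ← mul_assoc, hd'd']
      rcases hno (d * a + d' * a') ⟨add_mem (mul_mem hd ha) (mul_mem hd' ha'), by
          rw [add_mul, mul_add, mul_add, hda, hda', hcross,
            coreAlg_comm (mul_mem hd' ha') (mul_mem hd ha), hcross, add_zero, zero_add],
          by simpa [add_comm] using hadj2.add hadj2.symm⟩ with h | h
      · left
        have h' := congrArg (d * a * ·) h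
        simp only [mul_add, hda, hcross, add_zero, mul_zero] at h'
        exact h'
      · right
        have h' := congrArg (· * a) h
        simp only [add_mul, one_mul] at h'
        rwa [mul_assoc d' a', coreAlg_comm ha' ha, hz, mul_zero, add_zero, mul_assoc, haa] at h'
    have hd0 : d ≠ 0 := fun h => he0 (cj_injective (f x) (h.trans (cj_zero _).symm))
    have hd1 : d ≠ 1 := fun h => he1 (cj_injective (f x) (h.trans (cj_one _).symm))
    have hsplit : d = d * e + d * e' := by rw [← mul_add, h11, mul_one]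
    rcases key e e' he he' hee h00 h11 hadj with h | h <;>
      rcases key e' e he' he hee' (by rw [coreAlg_comm he' he]; exact h00)
        (by rw [add_comm]; exact h11) hadj.symm with h' | h'
    · exact absurd (by rw [hsplit, h, h', add_zero]) hd0
    · right; rw [hsplit, h, h', zero_add]
    · left; rw [hsplit, h, h', add_zero]
    · exact absurd (by rw [hsplit, h, h', h11]) hd1
  push Not at hex
  right
  -- every non-zero element is a root of unity
  have hunit : ∀ a ∈ coreAlg K, a ≠ 0 → ∃ n, 0 < n ∧ a ^ n = 1 := by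
    intro a ha ha0
    obtain ⟨n, hn, hidem⟩ := exists_pow_idem a
    refine ⟨n, hn, hex _ (pow_mem ha n) hidem fun h => ha0 (reduced_pow hK ha n h)⟩
  obtain ⟨w, hw, hwadj⟩ : ∃ w ∈ coreAlg K, ¬ IsAdj w w := by
    by_contra! h
    exact not_all_selfAdj hK hM h
  obtain ⟨b, hb, hab⟩ := exists_adj hw
  have hw0 : w ≠ 0 := fun h => hwadj (by rw [h]; exact isAdj_zero)
  have hb0 : b ≠ 0 := fun h => hw0 (by
    have h' := hab.symm
    rw [h] at h'
    exact h'.unique isAdj_zero)
  obtain ⟨n, hn, hwn⟩ := hunit w hw hw0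
  obtain ⟨m, hm, hbm⟩ := hunit b hb hb0
  set wi := w ^ (n - 1)
  set bi := b ^ (m - 1)
  have hwi : w * wi = 1 := by rw [← pow_succ', Nat.sub_add_cancel hn, hwn]
  have hbi : b * bi = 1 := by rw [← pow_succ', Nat.sub_add_cancel hm, hbm]
  have hwi_mem : wi ∈ coreAlg K := pow_mem hw _
  have hbi_mem : bi ∈ coreAlg K := pow_mem hb _
  obtain ⟨c, hc, hwic⟩ := exists_adj hwi_mem
  have hcb : c = bi := by
    have h1 := hab.mul hwic
    rw [hwi] at h1
    have h2 : c * b = 1 := (IsAdj.unique isAdj_one h1).symm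
    rw [← mul_one c, ← hbi, ← mul_assoc, h2, one_mul]
  obtain ⟨c', hc', hbic⟩ := exists_adj hbi_mem
  have hbiw : IsAdj bi wi := (hcb ▸ hwic).symm
  set u := w * bi with hu
  set u' := wi * b with hu'
  have hu_mem : u ∈ coreAlg K := mul_mem hw hbi_mem
  have hu'_mem : u' ∈ coreAlg K := mul_mem hwi_mem hb
  have hadju : IsAdj u u' := hab.mul hbiw
  have huu' : u' * u = 1 := by
    rw [hu, hu', mul_assoc, ← mul_assoc b, coreAlg_comm hb hw, mul_assoc, hbi, mul_one,
      coreAlg_comm hwi_mem hw, hwi]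
  have hu1 : u ≠ 1 := by
    intro h
    apply hwadj
    have : w = b := by
      have h' := congrArg (· * b) h
      simp only [hu, mul_assoc, one_mul] at h'
      rwa [coreAlg_comm hbi_mem hb, hbi, mul_one] at h'
    rw [← this] at hab
    exact hab
  have hu0 : u ≠ 0 := fun h => hu1 (by
    have h' := huu'
    rw [h, mul_zero] at h'
    rw [h]
    exact h')
  obtain ⟨N, hN, huN⟩ := hunit u hu_mem hu0
  have hfin : IsOfFinOrder u := isOfFinOrder_iff_pow_eq_one.2 ⟨N, hN, huN⟩
  have hord1 : orderOf u ≠ 1 := fun h => hu1 (orderOf_eq_one_iff.1 h)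
  -- the order is odd
  have hodd : Odd (orderOf u) := by
    by_contra h
    obtain ⟨k, hk⟩ := Nat.not_odd_iff_even.1 h
    have hz : u ^ k + 1 = 0 := by
      refine reduced hK (add_mem (pow_mem hu_mem k) (one_mem _)) ?_
      rw [add_mul, mul_add, one_mul, mul_one, ← pow_add, ← hk, pow_orderOf_eq_one,
        show (1 : AddMonoid.End (M E)) + u ^ k + (u ^ k + 1) = (1 + 1) + (u ^ k + u ^ k) by abel,
        add_self_End, add_self_End, add_zero]
    have h1 : u ^ k = 1 := (eq_neg_of_add_eq_zero_left hz).trans (neg_End _)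
    have hpos := hfin.orderOf_pos
    exact absurd (Nat.le_of_dvd (by omega) (orderOf_dvd_of_pow_eq_one h1)) (by omega)
  obtain ⟨q, hq, t, ht⟩ := Nat.exists_prime_and_dvd hord1
  have htpos : 0 < t := by
    rcases Nat.eq_zero_or_pos t with rfl | h
    · rw [mul_zero] at ht; exact absurd ht hfin.orderOf_pos.ne'
    · exact h
  set v := u ^ t with hv
  have hv_ord : orderOf v = q := by
    rw [hv, orderOf_pow' u htpos.ne', ht, Nat.gcd_eq_right (dvd_mul_left t q), Nat.mul_div_cancel _ htpos]
  have hv_mem : v ∈ coreAlg K := pow_mem hu_mem _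
  have hvq : v ^ q = 1 := by rw [← hv_ord]; exact pow_orderOf_eq_one v
  have hv1 : v ≠ 1 := fun h => hq.ne_one (by rw [← hv_ord, h, orderOf_one])
  have hiso : ∀ x y, form (v x) (v y) = form x y := by
    have h1 : ∀ x y, form (u x) (u y) = form x y := fun x y => by
      rw [hadju, ← Function.comp_apply (f := u') (g := u)]
      exact congrArg (form x) (congrArg (fun a : AddMonoid.End (M E) => a y) huu')
    intro x y
    rw [hv]
    clear_value v
    clear hv hv_ord hv_mem hvq hv1 htpos ht
    induction t generalizing x y with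
    | zero => rw [pow_zero]; rfl
    | succ t ih =>
      rw [pow_succ]
      exact (ih (u x) (u y)).trans (h1 x y)
  refine ⟨q, v, hq, hv_mem, hv1, hvq, hiso, fun x => ?_, fun j hj m hm' => ?_⟩
  · let A := coreAlg K
    let _ : CommRing A :=
      { (inferInstance : Ring A) with mul_comm := fun a b => Subtype.ext (coreAlg_comm a.2 b.2) }
    have : Nontrivial A := ⟨⟨⟨v, hv_mem⟩, 1, fun h => hv1 (congrArg Subtype.val h)⟩⟩
    have : NoZeroDivisors A := ⟨fun {a b} h => by
      rcases eq_or_ne a 0 with ha | ha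
      · exact Or.inl ha
      right
      obtain ⟨n, hn, han⟩ := hunit a a.2 fun h' => ha (Subtype.ext h')
      apply Subtype.ext
      have h' : (a : AddMonoid.End (M E)) * b = 0 := congrArg Subtype.val h
      calc (b : AddMonoid.End (M E)) = (a : AddMonoid.End (M E)) ^ (n - 1) * a * b := by
            rw [← pow_succ, Nat.sub_add_cancel hn, han, one_mul]
        _ = 0 := by rw [mul_assoc, h', mul_zero]⟩
    have : IsDomain A := NoZeroDivisors.to_isDomain A
    have hprim : IsPrimitiveRoot (⟨v, hv_mem⟩ : A) q := by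
      rw [← hv_ord, show orderOf v = orderOf (⟨v, hv_mem⟩ : A) from
        orderOf_injective A.subtype.toMonoidHom Subtype.val_injective ⟨v, hv_mem⟩]
      exact IsPrimitiveRoot.orderOf _
    have hc : (⟨cj (f x) v, cj_mem (hnorm x) hv_mem⟩ : A) ^ q = 1 := by
      apply Subtype.ext
      show cj (f x) v ^ q = 1
      rw [← cj_pow, hvq, cj_one]
    have : NeZero q := ⟨hq.ne_zero⟩
    obtain ⟨j, -, hj⟩ := hprim.eq_pow_of_pow_eq_one hc
    exact ⟨j, (congrArg Subtype.val hj).symm⟩
  · have hne : v ^ j + 1 ≠ 0 := fun h => hj ((eq_neg_of_add_eq_zero_left h).trans (neg_End _))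
    obtain ⟨N', hN', hpow⟩ := hunit _ (add_mem (pow_mem hv_mem j) (one_mem _)) hne
    have h0 : (v ^ j + 1) m = 0 := by
      show (v ^ j) m + m = 0
      rw [hm', add_self_M]
    have h1 := congrArg (fun a : AddMonoid.End (M E) => a m) hpow
    rw [← Nat.sub_add_cancel hN', pow_succ] at h1
    exact h1.symm.trans ((congrArg (fun y : M E => ((v ^ j + 1) ^ (N' - 1) : AddMonoid.End (M E)) y) h0).trans (map_zero _))

end Cfsg.Agent.Lib.ExtendExtraTwo
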