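import Cfsg.Agent.Lib.ExtendExtraTwo.Rep

/-!
Intertwiners of the faithful irreducible representation and the product of their traces.
-/

set_option autoImplicit false

namespace Cfsg.Agent.Lib.ExtendExtraTwo

open Subgroup Cfsg.Agent.Lib.ExtraStruct Cfsg

universe u w

variable {E : Type u} [Group E] {V : Type w} [AddCommGroup V] [Module ℂ V]

/-- Pairs of an automorphism and a map carrying `σ` to its twist. -/
def Tw (σ : Representation ℂ E V) : Subgroup (MulAut E × (Module.End ℂ V)ˣ) where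
  carrier := {p | ∀ e : E, (p.2 : Module.End ℂ V) * σ e = σ (p.1 e) * p.2}
  one_mem' := fun e => by simp
  mul_mem' := fun {a b} ha hb e => by
    rw [Prod.snd_mul, Prod.fst_mul, Units.val_mul, MulAut.mul_apply, mul_assoc, hb e, ← mul_assoc,
      ha (b.1 e), mul_assoc]
  inv_mem' := fun {a} ha e => by
    have h1 := ha (a.1⁻¹ e)
    rw [MulAut.apply_inv_self] at h1
    rw [Prod.snd_inv, Prod.fst_inv]
    have h2 := congrArg (fun x : Module.End ℂ V => (↑(a.2⁻¹) : Module.End ℂ V) * x *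
      (↑(a.2⁻¹) : Module.End ℂ V)) h1
    simpa [mul_assoc] using h2.symm

variable [hE : Fact (ExtraLike 2 E)] [Finite E] {z : E} (hz : z ∈ center E) (hz1 : z ≠ 1)
  [FiniteDimensional ℂ V] {σ : Representation ℂ E V}
include hz hz1

theorem exists_tw (hσ : Good z σ) (α : MulAut E) (hαz : α z = z) :
    ∃ T : (Module.End ℂ V)ˣ, (α, T) ∈ Tw σ := by
  have hg : Good z (σ.comp α.toMonoidHom : Representation ℂ E V) :=
    ⟨by show σ (α z) = -1; rw [hαz]; exact hσ.map_z, hσ.degree⟩
  have := hσ.irreducible hz hz1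
  obtain ⟨e⟩ := CharExt.nonempty_equiv_of_char_eq σ (σ.comp α.toMonoidHom : Representation ℂ E V)
    (hσ.char_eq hz hz1 hg)
  exact ⟨LinearMap.GeneralLinearGroup.ofLinearEquiv e.toLinearEquiv, fun x => e.isIntertwining' x⟩

theorem tw_unique (hσ : Good z σ) {α : MulAut E} {T T' : (Module.End ℂ V)ˣ} (h : (α, T) ∈ Tw σ)
    (h' : (α, T') ∈ Tw σ) : ∃ c : ℂˣ, T' = CharExt.scalarUnit c * T := by
  have := hσ.irreducible hz hz1
  have hm := (Tw σ).mul_mem h' ((Tw σ).inv_mem h)
  simp only [Prod.inv_mk, Prod.mk_mul_mk, mul_inv_cancel] at hm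
  obtain ⟨c, hc⟩ := CharExt.exists_scalar_of_commute σ (T' * T⁻¹) fun e => by
    have := hm e
    simp only [MulAut.one_apply] at this
    exact this
  exact ⟨c, by rw [← hc, inv_mul_cancel_right]⟩

omit hz hz1 hE [Finite E] [FiniteDimensional ℂ V] in
theorem tw_scalar {α : MulAut E} {T : (Module.End ℂ V)ˣ} (h : (α, T) ∈ Tw σ) (c : ℂˣ) :
    (α, CharExt.scalarUnit c * T) ∈ Tw σ := by
  intro e
  show (algebraMap ℂ (Module.End ℂ V) (c : ℂ) * (T : Module.End ℂ V)) * σ e = _
  rw [mul_assoc, show (T : Module.End ℂ V) * σ e = σ (α e) * T from h e, ← mul_assoc,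
    Algebra.commutes, mul_assoc]
  rfl

omit hz hz1 hE [Finite E] [FiniteDimensional ℂ V] in
theorem trace_scalar_mul (c : ℂˣ) (T : Module.End ℂ V) :
    LinearMap.trace ℂ V ((CharExt.scalarUnit c : (Module.End ℂ V)ˣ) * T) = (c : ℂ) * LinearMap.trace ℂ V T := by
  show LinearMap.trace ℂ V (algebraMap ℂ (Module.End ℂ V) (c : ℂ) * T) = _
  rw [← Algebra.smul_def, map_smul, smul_eq_mul]

theorem trace_mul_trace_inv [Fintype E] (hσ : Good z σ) {β : MulAut E} {T : (Module.End ℂ V)ˣ}
    (hT : (β, T) ∈ Tw σ) (hfree : ∀ x, x⁻¹ * β x ∈ center E → x ∈ center E) (hβz : β z = z) :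
    LinearMap.trace ℂ V (T : Module.End ℂ V) * LinearMap.trace ℂ V ((T⁻¹ : (Module.End ℂ V)ˣ) : Module.End ℂ V)
      = 1 := by
  classical
  have := hσ.irreducible hz hz1
  have := hσ.nontrivial
  let S : Module.End ℂ V := ∑ e : E, σ e * T * σ e⁻¹
  obtain ⟨c, hc⟩ := Chars.exists_scalar_of_commute σ S fun g => by
    rw [← Module.End.mul_eq_comp, ← Module.End.mul_eq_comp]
    simp only [S, Finset.mul_sum, Finset.sum_mul]
    refine (Fintype.sum_equiv (Equiv.mulLeft g) (fun e => σ g * (σ e * T * σ e⁻¹))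
      (fun e => σ e * T * σ e⁻¹ * σ g) fun e => ?_).symm
    rw [Equiv.coe_mulLeft]
    simp only [mul_assoc, ← map_mul, mul_inv_rev, inv_mul_cancel, mul_one]
    rw [← mul_assoc (σ g), ← map_mul]
  set d : ℂ := (Module.finrank ℂ V : ℂ) with hd
  have hd0 : d ≠ 0 := Nat.cast_ne_zero.2 Module.finrank_pos.ne'
  have htr : (Nat.card E : ℂ) * LinearMap.trace ℂ V (T : Module.End ℂ V) = c * d := by
    have h1 := congrArg (LinearMap.trace ℂ V) hc
    rw [map_smul, smul_eq_mul, LinearMap.trace_one] at h1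
    rw [← h1, map_sum]
    have h2 : ∀ e : E, LinearMap.trace ℂ V (σ e * T * σ e⁻¹) = LinearMap.trace ℂ V (T : Module.End ℂ V) :=
      fun e => by rw [LinearMap.trace_mul_cycle, ← map_mul, inv_mul_cancel, map_one, one_mul]
    rw [Finset.sum_congr rfl fun e _ => h2 e, Finset.sum_const, Finset.card_univ, nsmul_eq_mul,
      Nat.card_eq_fintype_card]
  have h3 : ∑ e : E, LinearMap.trace ℂ V (σ (e * β e⁻¹)) =
      c * LinearMap.trace ℂ V ((T⁻¹ : (Module.End ℂ V)ˣ) : Module.End ℂ V) := by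
    have h4 := congrArg (fun X : Module.End ℂ V =>
      LinearMap.trace ℂ V (X * ((T⁻¹ : (Module.End ℂ V)ˣ) : Module.End ℂ V))) hc
    simp only [S, Finset.sum_mul, map_sum, smul_mul_assoc, one_mul, map_smul, smul_eq_mul] at h4
    rw [← h4]
    refine Finset.sum_congr rfl fun e _ => ?_
    rw [mul_assoc (σ e), show (T : Module.End ℂ V) * σ e⁻¹ = σ (β e⁻¹) * T from hT e⁻¹, map_mul,
      mul_assoc (σ e), mul_assoc (σ (β e⁻¹)), Units.mul_inv, mul_one]
  have hsub : (Finset.univ : Finset E).filter (fun x => x ∈ center E) = {1, z} := by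
    ext x
    simp only [Finset.mem_filter, Finset.mem_univ, true_and, Finset.mem_insert, Finset.mem_singleton]
    exact ⟨center_cases hz hz1, fun h => h.elim (fun e => e ▸ one_mem _) (fun e => e ▸ hz)⟩
  have h5 : ∑ e : E, LinearMap.trace ℂ V (σ (e * β e⁻¹)) = 2 * d := by
    rw [← Finset.sum_filter_add_sum_filter_not Finset.univ (fun x => x ∈ center E), hsub,
      Finset.sum_eq_zero (s := Finset.univ.filter fun x => x ∉ center E) (fun x hx => ?_), add_zero,
      Finset.sum_pair hz1.symm]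
    · rw [inv_one, map_one, mul_one, map_inv, hβz, mul_inv_cancel, map_one, LinearMap.trace_one, hd]
      ring
    · refine hσ.vanish hz hz1 fun hcen => (Finset.mem_filter.1 hx).2 (hfree x ?_)
      have h6 : x⁻¹ * β x = x⁻¹ * (x * β x⁻¹)⁻¹ * x := by rw [map_inv]; group
      rw [h6, mem_center_iff.1 (inv_mem hcen) x⁻¹]
      simpa using inv_mem hcen
  rw [h5] at h3
  have hdeg : (Nat.card E : ℂ) = 2 * d ^ 2 := by rw [← hσ.degree]; push_cast; rfl
  rw [hdeg] at htr
  have hc2 : c = 2 * d * LinearMap.trace ℂ V (T : Module.End ℂ V) := by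
    apply mul_right_cancel₀ hd0
    linear_combination -htr
  rw [hc2] at h3
  apply mul_left_cancel₀ (mul_ne_zero (two_ne_zero (α := ℂ)) hd0)
  linear_combination -h3

end Cfsg.Agent.Lib.ExtendExtraTwo
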