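import Cfsg.Agent.Lib.ExtendExtraTwo.Algebra

/-!
An isometry commuting with a fixed-point-free odd group lifts uniquely to an automorphism centralising the group.
-/

set_option autoImplicit false

namespace Cfsg.Agent.Lib.ExtendExtraTwo

open Subgroup Cfsg.Agent.Lib.ExtraStruct Cfsg.Agent.Lib.ExtraTwoCoord
open scoped commutatorElement

universe u

variable {E : Type u} [Group E] [hE : Fact (ExtraLike 2 E)] [Finite E]

/-- An isometry lifts to an automorphism. -/
theorem exists_aut_lift (u : AddMonoid.End (M E)) (hu : Function.Bijective u)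
    (hq : ∀ m, qf (u m) = qf m) : ∃ α : MulAut E, act α = u := by
  have := fact_two
  have h := hE.out
  obtain ⟨z, hz, hz1⟩ := exists_center_ne_one h
  let D : Subgroup (E × E) :=
    { carrier := {p | mk p.2 = u (mk p.1)}
      one_mem' := (map_zero u).symm
      mul_mem' := fun {a b} ha hb => by
        show mk (a.2 * b.2) = u (mk (a.1 * b.1))
        rw [mk_mul, mk_mul, show u (mk a.1 + mk b.1) = u (mk a.1) + u (mk b.1) from map_add u _ _]
        exact congrArg₂ (· + ·) ha hb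
      inv_mem' := fun {a} ha => by
        show -mk a.2 = u (-mk a.1)
        rw [show u (-mk a.1) = -u (mk a.1) from map_neg u _]
        exact congrArg Neg.neg ha }
  have hsqD : ∀ p ∈ D, p * p = 1 ∨ p * p = (z, z) := by
    rintro ⟨a, b⟩ hp
    have hp' : mk b = u (mk a) := hp
    have e : bit (a ^ 2) = bit (b ^ 2) := by rw [← qf_mk, ← qf_mk, hp', hq]
    by_cases ha : a ^ 2 = 1
    · left
      rw [bit_eq_zero.2 ha, eq_comm, bit_eq_zero] at e
      ext <;> simp only [Prod.fst_mul, Prod.snd_mul, Prod.fst_one, Prod.snd_one, ← sq]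
      exacts [ha, e]
    · right
      have hb : b ^ 2 ≠ 1 := fun hb => ha (bit_eq_zero.1 (e.trans (bit_eq_zero.2 hb)))
      ext <;> simp only [Prod.fst_mul, Prod.snd_mul, ← sq]
      exacts [eq_of_mem_center_two h (h.pow_mem a) ha hz hz1,
        eq_of_mem_center_two h (h.pow_mem b) hb hz hz1]
  have hz0' : mk z = 0 := mk_eq_zero.2 hz
  have hzzD : (z, z) ∈ D := by
    show mk z = u (mk z)
    rw [hz0']; exact (map_zero u).symm
  have hzD : (z, (1 : E)) ∈ D := by
    show mk (1 : E) = u (mk z)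
    rw [hz0']; exact (map_zero u).symm
  have hz0 : (z, (1 : E)) ∉ zpowers ((z, z) : E × E) := by
    rintro ⟨n, hn⟩
    have e2 : z ^ n = 1 := congrArg Prod.snd hn
    have e1 : z ^ n = z := congrArg Prod.fst hn
    exact hz1 (e1.symm.trans e2)
  obtain ⟨W, hW, hmax⟩ := Set.Finite.exists_maximal
    (s := {W : Subgroup (E × E) | W ≤ D ∧ (z, z) ∈ W ∧ (z, (1 : E)) ∉ W}) (Set.toFinite _)
    ⟨zpowers (z, z), zpowers_le.2 hzzD, mem_zpowers _, hz0⟩
  obtain ⟨hWD, hzzW, hzW⟩ := hW
  have sqW : ∀ p ∈ D, p * p ∈ W := fun p hp => by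
    rcases hsqD p hp with e | e <;> rw [e]
    exacts [one_mem _, hzzW]
  have conjW : ∀ g ∈ D, ∀ w ∈ W, g * w * g⁻¹ ∈ W := by
    intro g hg w hw
    have e : g * w * g⁻¹ = (g * g) * ((g⁻¹ * w) * (g⁻¹ * w)) * w⁻¹ := by group
    rw [e]
    exact mul_mem (mul_mem (sqW g hg) (sqW _ (mul_mem (inv_mem hg) (hWD hw)))) (inv_mem hw)
  have key : ∀ g ∈ D, g ∈ W ∨ g * (z, 1) ∈ W := by
    intro g hg
    by_cases hgW : g ∈ W
    · exact Or.inl hgW
    right
    let H : Subgroup (E × E) :=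
      { carrier := {k | k ∈ W ∨ g * k ∈ W}
        one_mem' := Or.inl (one_mem _)
        mul_mem' := fun {a b} ha hb => by
          rcases ha with ha | ha <;> rcases hb with hb | hb
          · exact Or.inl (mul_mem ha hb)
          · right
            have e : g * (a * b) = (g * a * g⁻¹) * (g * b) := by group
            show g * (a * b) ∈ W
            rw [e]; exact mul_mem (conjW g hg a ha) hb
          · right
            show g * (a * b) ∈ W
            rw [← mul_assoc]; exact mul_mem ha hb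
          · left
            have e : a * b = (g⁻¹ * (g * a) * g⁻¹⁻¹) * (g * g)⁻¹ * (g * b) := by group
            show a * b ∈ W
            rw [e]
            exact mul_mem (mul_mem (conjW _ (inv_mem hg) _ ha) (inv_mem (sqW g hg))) hb
        inv_mem' := fun {a} ha => by
          rcases ha with ha | ha
          · exact Or.inl (inv_mem ha)
          · right
            have e : g * a⁻¹ = (g * (g * a)⁻¹ * g⁻¹) * (g * g) := by group
            show g * a⁻¹ ∈ W
            rw [e]; exact mul_mem (conjW g hg _ (inv_mem ha)) (sqW g hg) }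
    have hWH : W ≤ H := fun w hw => Or.inl hw
    have hgH : g ∈ H := Or.inr (sqW g hg)
    have hHD : H ≤ D := by
      rintro k (hk | hk)
      · exact hWD hk
      · simpa using mul_mem (inv_mem hg) (hWD hk)
    by_contra hcon
    have hzH : (z, (1 : E)) ∉ H := fun h' => h'.elim hzW hcon
    exact hgW (hmax (y := H) ⟨hHD, hWH hzzW, hzH⟩ hWH hgH)
  let f₁ : W →* E := (MonoidHom.fst E E).comp W.subtype
  let f₂ : W →* E := (MonoidHom.snd E E).comp W.subtype
  have hf₁ : Function.Bijective f₁ := by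
    constructor
    · rw [← MonoidHom.ker_eq_bot_iff, eq_bot_iff]
      rintro ⟨⟨a, b⟩, hp⟩ hab
      have ha : a = 1 := hab
      subst ha
      have hb : mk b = u (mk (1 : E)) := hWD hp
      have hbc : b ∈ center E := mk_eq_zero.1 (hb.trans (map_zero u))
      rcases eq_or_ne b 1 with rfl | hb1
      · exact mem_bot.2 rfl
      · exfalso
        have := mul_mem hp hzzW
        rw [Prod.mk_mul_mk, one_mul, eq_of_mem_center_two h hbc hb1 hz hz1, center_sq h hz] at this
        exact hzW this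
    · intro a
      have hD : ((a, lift (u (mk a))) : E × E) ∈ D := mk_lift _
      rcases key _ hD with h' | h'
      · exact ⟨⟨_, h'⟩, rfl⟩
      · refine ⟨⟨_, mul_mem h' hzzW⟩, ?_⟩
        show a * z * z = a
        rw [mul_assoc, center_sq h hz, mul_one]
  let α₀ : E →* E := f₂.comp (MulEquiv.ofBijective f₁ hf₁).symm.toMonoidHom
  have hα : ∀ g, mk (α₀ g) = u (mk g) := by
    intro g
    obtain ⟨p, rfl⟩ := hf₁.2 g
    have : (MulEquiv.ofBijective f₁ hf₁).symm (f₁ p) = p := by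
      rw [MulEquiv.symm_apply_eq]; rfl
    show mk (f₂ ((MulEquiv.ofBijective f₁ hf₁).symm (f₁ p))) = _
    rw [this]
    exact hWD p.2
  have hinj : Function.Injective α₀ := by
    rw [← MonoidHom.ker_eq_bot_iff, eq_bot_iff]
    intro g hg
    rw [MonoidHom.mem_ker] at hg
    obtain ⟨⟨⟨a, b⟩, hp⟩, rfl⟩ := hf₁.2 g
    have hb : b = 1 := by
      have : (MulEquiv.ofBijective f₁ hf₁).symm (f₁ ⟨(a, b), hp⟩) = ⟨(a, b), hp⟩ := by
        rw [MulEquiv.symm_apply_eq]; rfl
      simpa [α₀, f₂, this] using hg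
    subst hb
    have hT0 : mk (1 : E) = u (mk a) := hWD hp
    have hac : a ∈ center E := mk_eq_zero.1 (hu.1 (hT0.symm.trans (map_zero u).symm))
    rcases eq_or_ne a 1 with rfl | ha1
    · exact mem_bot.2 rfl
    · exact absurd (eq_of_mem_center_two h hz hz1 hac ha1 ▸ hp) hzW
  refine ⟨MulEquiv.ofBijective α₀ (Finite.injective_iff_bijective.1 hinj), AddMonoidHom.ext fun m => ?_⟩
  obtain ⟨x, rfl⟩ := mk_surjective m
  exact (act_mk _ x).trans (hα x)

variable {K : Subgroup (MulAut E)}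

theorem act_eq_one_iff {δ : MulAut E} : act δ = 1 ↔ ∀ x, x⁻¹ * δ x ∈ center E := by
  constructor
  · intro h x
    refine mk_eq_mk.1 ?_
    rw [← act_mk, h]
    rfl
  · intro h
    refine AddMonoidHom.ext fun m => ?_
    obtain ⟨x, rfl⟩ := mk_surjective m
    exact (act_mk δ x).trans (mk_eq_mk.2 (h x)).symm

/-- An automorphism trivial modulo the centre and centralising `K` is trivial. -/
theorem eq_one_of_commute (hK : FPF K) {δ : MulAut E} (hδ : act δ = 1)
    (hc : ∀ k ∈ K, k * δ = δ * k) : δ = 1 := by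
  have h := hE.out
  have := fact_two
  rw [act_eq_one_iff] at hδ
  have hwell : ∀ {x y : E}, mk x = mk y → x⁻¹ * δ x = y⁻¹ * δ y := by
    intro x y hxy
    obtain ⟨c, hc', rfl⟩ : ∃ c ∈ center E, y = x * c := ⟨x⁻¹ * y, mk_eq_mk.1 hxy, by group⟩
    rw [map_mul, aut_center δ hc', mul_inv_rev]
    calc x⁻¹ * δ x = c⁻¹ * c * (x⁻¹ * δ x) := by rw [inv_mul_cancel, one_mul]
      _ = c⁻¹ * ((x⁻¹ * δ x) * c) := by rw [mul_assoc, ← mem_center_iff.1 hc' (x⁻¹ * δ x)]
      _ = c⁻¹ * x⁻¹ * (δ x * c) := by group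
  let ℓ : M E →+ ZMod 2 := AddMonoidHom.mk' (fun m => bit ((lift m)⁻¹ * δ (lift m))) fun a b => by
    rw [hwell (x := lift (a + b)) (y := lift a * lift b) (by rw [mk_lift, mk_mul, mk_lift, mk_lift]),
      map_mul, mul_inv_rev,
      show (lift b)⁻¹ * (lift a)⁻¹ * (δ (lift a) * δ (lift b)) =
        (lift b)⁻¹ * (((lift a)⁻¹ * δ (lift a)) * δ (lift b)) by group,
      ← mem_center_iff.1 (hδ (lift a)) (δ (lift b)), ← mul_assoc, bit_mul h (hδ _) (hδ _), add_comm]
  have h0 := functional_eq_zero hK ℓ fun k hk m => by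
    show bit ((lift (act k m))⁻¹ * δ (lift (act k m))) = bit ((lift m)⁻¹ * δ (lift m))
    rw [hwell (x := lift (act k m)) (y := k (lift m)) (by rw [mk_lift, ← act_mk, mk_lift]),
      show δ (k (lift m)) = k (δ (lift m)) from (congrArg (fun a : MulAut E => a (lift m)) (hc k hk)).symm,
      ← map_inv, ← map_mul, aut_center k (hδ _)]
  refine MulEquiv.ext fun x => ?_
  have hx := congrArg (fun l : M E →+ ZMod 2 => l (mk x)) h0
  simp only [ℓ, AddMonoidHom.mk'_apply, AddMonoidHom.zero_apply, bit_eq_zero] at hx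
  rw [hwell (mk_lift (mk x)), inv_mul_eq_one] at hx
  exact hx.symm

/-- The lift centralising `K`. -/
theorem exists_commuting_lift (hK : FPF K) (u : AddMonoid.End (M E)) (hu : Function.Bijective u)
    (hiso : ∀ x y, form (u x) (u y) = form x y) (hcomm : ∀ k ∈ K, act k * u = u * act k) :
    ∃ c : MulAut E, act c = u ∧ ∀ k ∈ K, k * c = c * k := by
  classical
  let := Fintype.ofFinite K
  let ℓ : M E →+ ZMod 2 := AddMonoidHom.mk' (fun m => qf (u m) + qf m) fun a b => by
    show qf (u (a + b)) + qf (a + b) = qf (u a) + qf a + (qf (u b) + qf b)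
    rw [show u (a + b) = u a + u b from map_add u a b, qf_add, qf_add, hiso]
    generalize qf (u a) = p
    generalize qf (u b) = r
    generalize qf a = s
    generalize qf b = t
    generalize form a b = w
    linear_combination CharTwo.add_self_eq_zero w
  have h0 := functional_eq_zero hK ℓ fun k hk m => by
    show qf (u (act k m)) + qf (act k m) = qf (u m) + qf m
    rw [show u (act k m) = act k (u m) from
      (congrArg (fun a : AddMonoid.End (M E) => a m) (hcomm k hk)).symm, qf_act, qf_act]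
  obtain ⟨c₀, hc₀⟩ := exists_aut_lift u hu fun m => by
    have h1 : qf (u m) + qf m = 0 := congrArg (fun l : M E →+ ZMod 2 => l m) h0
    rw [eq_neg_of_add_eq_zero_left h1, ZMod.neg_eq_self_mod_two]
  let Nk : Subgroup (MulAut E) := (act (E := E)).ker
  have hsq : ∀ δ ∈ Nk, δ * δ = 1 := by
    intro δ hδ
    refine MulEquiv.ext fun x => ?_
    have hc := act_eq_one_iff.1 (MonoidHom.mem_ker.1 hδ) x
    have h1 : δ x = x * (x⁻¹ * δ x) := by group
    show δ (δ x) = x
    rw [h1, map_mul, aut_center δ hc]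
    calc δ x * (x⁻¹ * δ x) = x * ((x⁻¹ * δ x) * (x⁻¹ * δ x)) := by group
      _ = x := by have := fact_two; rw [center_sq hE.out hc, mul_one]
  let _ : CommGroup Nk :=
    { (inferInstance : Group Nk) with
      mul_comm := fun a b => by
        have hinv : ∀ d : Nk, d⁻¹ = d := fun d => inv_eq_of_mul_eq_one_right (Subtype.ext (hsq d d.2))
        rw [← hinv (a * b), mul_inv_rev, hinv, hinv] }
  have hmem : ∀ k : K, c₀⁻¹ * k * c₀ * (k : MulAut E)⁻¹ ∈ Nk := by
    intro k
    rw [MonoidHom.mem_ker, map_mul, map_mul, map_mul, mul_assoc (act c₀⁻¹), hc₀, hcomm k k.2,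
      ← mul_assoc, ← hc₀, act_inv_mul, one_mul, act_mul_inv]
  let δ : Nk := ∏ k : K, ⟨_, hmem k⟩
  refine ⟨c₀ * δ, ?_, fun h hh => ?_⟩
  · rw [map_mul, hc₀, MonoidHom.mem_ker.1 δ.2, mul_one]
  let C : Nk →* Nk := MonoidHom.mk' (fun d => ⟨h * d * h⁻¹, by
      rw [MonoidHom.mem_ker, map_mul, map_mul, MonoidHom.mem_ker.1 d.2, mul_one, act_mul_inv]⟩)
    fun a b => Subtype.ext (by simp [mul_assoc])
  let d₁ : Nk := ⟨h * c₀⁻¹ * h⁻¹ * c₀, by
    have h1 := hmem ⟨h⁻¹, inv_mem hh⟩
    have e : h * c₀⁻¹ * h⁻¹ * c₀ = h * (c₀⁻¹ * h⁻¹ * c₀ * (h⁻¹)⁻¹) * h⁻¹ := by group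
    rw [MonoidHom.mem_ker, e, map_mul, map_mul, MonoidHom.mem_ker.1 h1, mul_one, act_mul_inv]⟩
  have hδ : C δ = d₁ * δ := by
    show C (∏ k : K, ⟨_, hmem k⟩) = d₁ * δ
    rw [map_prod]
    have e : ∀ k : K, C ⟨_, hmem k⟩ = d₁ * ⟨_, hmem ((⟨h, hh⟩ : K) * k)⟩ := fun k => Subtype.ext (by
      show h * (c₀⁻¹ * k * c₀ * (k : MulAut E)⁻¹) * h⁻¹ =
        h * c₀⁻¹ * h⁻¹ * c₀ * (c₀⁻¹ * (h * k) * c₀ * (h * (k : MulAut E))⁻¹)
      group)
    rw [Finset.prod_congr rfl fun k _ => e k, Finset.prod_mul_distrib, Finset.prod_const,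
      Finset.card_univ, ← Nat.card_eq_fintype_card]
    obtain ⟨j, hj⟩ := hK.odd
    have h2 : d₁ ^ 2 = 1 := by rw [sq]; exact Subtype.ext (hsq _ d₁.2)
    rw [hj, pow_succ, pow_mul, h2, one_pow, one_mul]
    congr 1
    exact Fintype.prod_equiv (Equiv.mulLeft (⟨h, hh⟩ : K)) _ _ fun k => rfl
  have h4 : h * (δ : MulAut E) * h⁻¹ = (h * c₀⁻¹ * h⁻¹ * c₀) * δ := congrArg Subtype.val hδ
  calc h * (c₀ * δ) = h * c₀ * h⁻¹ * (h * δ * h⁻¹) * h := by group
    _ = h * c₀ * h⁻¹ * ((h * c₀⁻¹ * h⁻¹ * c₀) * δ) * h := by rw [h4]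
    _ = c₀ * δ * h := by group

end Cfsg.Agent.Lib.ExtendExtraTwo
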