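import Mathlib
import Cfsg.Agent.Lib.Chars.Completeness
import Cfsg.Agent.Lib.Chars.Ops

/-!
A character of `Γ × C`, `C` of prime order, of absolute value one off `Γ` is a linear character times a linear
character there.
-/

set_option autoImplicit false

namespace Cfsg.Agent.Lib.ExtendExtraTwo

open Cfsg
open scoped ComplexConjugate

universe u v

variable {Γ : Type u} [Group Γ] [Fintype Γ] {C : Type v} [CommGroup C] [Fintype C]

/-- Integers with the least possible sum of squared differences: all but one are equal. -/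
theorem exists_special {ι : Type*} [Fintype ι] [DecidableEq ι] (h2 : 2 ≤ Fintype.card ι) (n : ι → ℤ)
    (h : ∑ i, ∑ j, (n i - n j) ^ 2 = 2 * ((Fintype.card ι : ℤ) - 1)) :
    ∃ i₀, ∀ j, j ≠ i₀ → n i₀ ≠ n j := by
  have hne : (Finset.univ : Finset ι).Nonempty := Finset.univ_nonempty_iff.2 (Fintype.card_pos_iff.1 (by omega))
  obtain ⟨m, -, hm⟩ := Finset.exists_min_image Finset.univ n hne
  let A := Finset.univ.filter fun i => n i = n m
  let B := Finset.univ.filter fun i => ¬ n i = n m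
  have hAB : A.card + B.card = Fintype.card ι :=
    (Finset.card_filter_add_card_filter_not _).trans Finset.card_univ
  have hA : 1 ≤ A.card := Finset.card_pos.2 ⟨m, by simp [A]⟩
  -- the pairs between the two parts
  have hcross : ∀ i ∈ A, ∀ j ∈ B, 1 ≤ (n i - n j) ^ 2 ∧ 1 ≤ (n j - n i) ^ 2 := by
    intro i hi j hj
    have h1 : n i = n m := (Finset.mem_filter.1 hi).2
    have h2' : n j ≠ n m := (Finset.mem_filter.1 hj).2
    have h3 : n i - n j ≠ 0 := by omega
    have h4 : n j - n i ≠ 0 := by omega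
    exact ⟨(sq_pos_of_ne_zero h3), (sq_pos_of_ne_zero h4)⟩
  have hsplit : ∑ i, ∑ j, (n i - n j) ^ 2 =
      (∑ i ∈ A, ∑ j ∈ A, (n i - n j) ^ 2) + (∑ i ∈ A, ∑ j ∈ B, (n i - n j) ^ 2) +
      ((∑ i ∈ B, ∑ j ∈ A, (n i - n j) ^ 2) + (∑ i ∈ B, ∑ j ∈ B, (n i - n j) ^ 2)) := by
    rw [← Finset.sum_add_distrib, ← Finset.sum_add_distrib, ← Finset.sum_filter_add_sum_filter_not Finset.univ
      (fun i => n i = n m)]
    simp only [← Finset.sum_add_distrib, A, B, Finset.sum_filter_add_sum_filter_not]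
  have hAA : 0 ≤ ∑ i ∈ A, ∑ j ∈ A, (n i - n j) ^ 2 := Finset.sum_nonneg fun _ _ => Finset.sum_nonneg fun _ _ => sq_nonneg _
  have hAB' : (A.card : ℤ) * B.card ≤ ∑ i ∈ A, ∑ j ∈ B, (n i - n j) ^ 2 := by
    have := Finset.card_nsmul_le_sum A (fun i => ∑ j ∈ B, (n i - n j) ^ 2) (B.card : ℤ) fun i hi => by
      simpa using Finset.card_nsmul_le_sum B (fun j => (n i - n j) ^ 2) 1 fun j hj => (hcross i hi j hj).1
    simpa using this
  have hBA : (B.card : ℤ) * A.card ≤ ∑ i ∈ B, ∑ j ∈ A, (n i - n j) ^ 2 := by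
    have := Finset.card_nsmul_le_sum B (fun i => ∑ j ∈ A, (n i - n j) ^ 2) (A.card : ℤ) fun i hi => by
      simpa using Finset.card_nsmul_le_sum A (fun j => (n i - n j) ^ 2) 1 fun j hj => (hcross j hj i hi).2
    simpa using this
  have hBB : 0 ≤ ∑ i ∈ B, ∑ j ∈ B, (n i - n j) ^ 2 := Finset.sum_nonneg fun _ _ => Finset.sum_nonneg fun _ _ => sq_nonneg _
  have hcard : (Fintype.card ι : ℤ) = A.card + B.card := by exact_mod_cast hAB.symm
  have hBne : 1 ≤ B.card := by
    by_contra hB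
    have hB0 : B = ∅ := Finset.card_eq_zero.1 (by omega)
    have hall : ∀ i, n i = n m := fun i => by
      by_contra hi
      have : i ∈ B := Finset.mem_filter.2 ⟨Finset.mem_univ i, hi⟩
      simp [hB0] at this
    simp [hall] at h
    omega
  rw [hsplit, hcard] at h
  have hle : (A.card : ℤ) * B.card ≤ (A.card : ℤ) + B.card - 1 := by
    linarith [mul_comm (A.card : ℤ) (B.card : ℤ)]
  have hone : A.card = 1 ∨ B.card = 1 := by
    by_contra hcon
    push Not at hcon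
    have h1 : (2 : ℤ) ≤ A.card := by omega
    have h3 : (2 : ℤ) ≤ B.card := by omega
    nlinarith
  rcases hone with h1 | h1
  · obtain ⟨i₀, hi₀⟩ := Finset.card_eq_one.1 h1
    have hi : n i₀ = n m := (Finset.mem_filter.1 (hi₀ ▸ Finset.mem_singleton_self i₀ : i₀ ∈ A)).2
    refine ⟨i₀, fun j hj he => hj ?_⟩
    have : j ∈ A := Finset.mem_filter.2 ⟨Finset.mem_univ j, he ▸ hi⟩
    rw [hi₀] at this
    exact Finset.mem_singleton.1 this
  · obtain ⟨i₀, hi₀⟩ := Finset.card_eq_one.1 h1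
    have hi : ¬ n i₀ = n m := (Finset.mem_filter.1 (hi₀ ▸ Finset.mem_singleton_self i₀ : i₀ ∈ B)).2
    refine ⟨i₀, fun j hj he => hj ?_⟩
    have : j ∈ B := Finset.mem_filter.2 ⟨Finset.mem_univ j, he ▸ hi⟩
    rw [hi₀] at this
    exact Finset.mem_singleton.1 this

theorem exists_factor (hC : 2 ≤ Fintype.card C) {χ : Γ × C → ℂ} (hχ : IsCharacter (Γ × C) χ)
    (habs : ∀ a p, p ≠ 1 → χ (a, p) * conj (χ (a, p)) = 1) :
    ∃ (η : Γ → ℂ) (ν : C →* ℂˣ), η 1 ≠ 0 ∧ (∀ a b, η (a * b) * η 1 = η a * η b) ∧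
      ∀ a p, p ≠ 1 → χ (a, p) = η a * (ν p : ℂ) := by
  classical
  have hcomm : IsMulCommutative C := ⟨⟨mul_comm⟩⟩
  have hν1 : ∀ ν : IrrCharacter C, (ν : C → ℂ) 1 = 1 := fun ν => Chars.irr_apply_one_of_comm ν
  let q := Fintype.card C
  have hcardI : Fintype.card (IrrCharacter C) = q := by
    rw [← Nat.card_eq_fintype_card, Chars.card_irrCharacter, show q = Nat.card C from Nat.card_eq_fintype_card.symm]
    refine Nat.card_congr (Equiv.ofBijective ConjClasses.mk ⟨fun a b h => ?_, Quot.mk_surjective⟩).symm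
    exact isConj_iff_eq.1 (ConjClasses.mk_eq_mk_iff_isConj.1 h)
  let F : Γ → C → ℂ := fun a p => χ (a, p)
  let A : IrrCharacter C → Γ → ℂ := fun ν a => classInner (F a) (ν : C → ℂ)
  have hFcl : ∀ a, IsClassFunction C (F a) := fun a g h => by
    rw [mul_comm h g, mul_inv_cancel_right]
  have hexp : ∀ a p, χ (a, p) = ∑ ν : IrrCharacter C, A ν a * (ν : C → ℂ) p := fun a p =>
    Chars.isClassFunction_apply_eq_sum_classInner (hFcl a) p
  have hAchar : ∀ ν, IsCharacter Γ (A ν) := by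
    intro ν
    refine Chars.isCharacter_of_isClassFunction_of_nat (fun g h => ?_) fun ψ => ?_
    · simp only [A, classInner]
      congr 1
      refine Finset.sum_congr rfl fun p _ => ?_
      congr 1
      have := (Chars.isClassFunction_of_isCharacter hχ) (g, p) (h, 1)
      simpa using this
    · obtain ⟨k, hk⟩ := Chars.isCharacter_classInner_nat hχ (Chars.isCharacter_mul
        (Chars.isCharacter_comp (MonoidHom.fst Γ C) (Chars.irr_isCharacter ψ))
        (Chars.isCharacter_comp (MonoidHom.snd Γ C) (Chars.irr_isCharacter ν)))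
      refine ⟨k, ?_⟩
      rw [← hk]
      simp only [classInner, A, F, Fintype.sum_prod_type, Pi.mul_apply, Function.comp_apply,
        MonoidHom.coe_fst, MonoidHom.coe_snd, map_mul, Nat.card_prod, Nat.cast_mul, mul_inv,
        Finset.mul_sum, Finset.sum_mul]
      exact Finset.sum_congr rfl fun a _ => Finset.sum_congr rfl fun p _ => by ring
  have hsum1 : ∀ a, χ (a, 1) = ∑ ν, A ν a := fun a => by
    rw [hexp a 1]
    exact Finset.sum_congr rfl fun ν _ => by rw [hν1, mul_one]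
  -- the identity at each point
  have hpt : ∀ a, ∑ ν, ∑ μ, (A ν a - A μ a) * conj (A ν a - A μ a) = 2 * ((q : ℂ) - 1) := by
    intro a
    have h1 : classInner (F a) (F a) = ∑ ν, A ν a * conj (A ν a) :=
      Chars.classInner_eq_sum_mul_conj (hFcl a) (hFcl a)
    have h2 : (q : ℂ) * classInner (F a) (F a) = χ (a, 1) * conj (χ (a, 1)) + ((q : ℂ) - 1) := by
      rw [classInner, Nat.card_eq_fintype_card, ← mul_assoc, mul_inv_cancel₀ (by
        exact_mod_cast (Fintype.card_ne_zero (α := C))), one_mul,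
        ← Finset.add_sum_erase _ _ (Finset.mem_univ (1 : C)),
        Finset.sum_congr rfl fun p hp => habs a p (Finset.mem_erase.1 hp).1, Finset.sum_const,
        Finset.card_erase_of_mem (Finset.mem_univ _), Finset.card_univ, nsmul_eq_mul, mul_one,
        Nat.cast_sub (by omega)]
      simp [F, q]
    simp only [map_sub, sub_mul, mul_sub, Finset.sum_sub_distrib, Finset.sum_const, Finset.card_univ,
      hcardI, nsmul_eq_mul, ← Finset.mul_sum, ← Finset.sum_mul, ← map_sum, ← hsum1]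
    rw [← h1]
    linear_combination (2 : ℂ) * h2
  -- degrees
  choose n hn using fun ν => Chars.isCharacter_exists_degree (hAchar ν)
  obtain ⟨ν₀, hν₀⟩ := exists_special (by rw [hcardI]; exact hC) (fun ν => (n ν : ℤ)) (by
    have h1 := hpt 1
    simp only [hn, map_sub, Complex.conj_natCast, ← sq] at h1
    rw [hcardI]
    exact_mod_cast h1)
  let D : IrrCharacter C → IrrCharacter C → Γ → ℂ := fun ν μ => A ν - A μ
  have hDgen : ∀ ν μ, IsGeneralizedCharacter Γ (D ν μ) := fun ν μ =>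
    ⟨A ν, A μ, hAchar ν, hAchar μ, rfl⟩
  choose m hm using fun ν μ => Chars.isGeneralizedCharacter_classInner_int (hDgen ν μ) (hDgen ν μ)
  have hnorm : ∀ ν μ, (m ν μ : ℂ) = (((Nat.card Γ : ℝ)⁻¹ * ∑ a, Complex.normSq (D ν μ a) : ℝ) : ℂ) := by
    intro ν μ
    rw [← hm, classInner]
    push_cast
    congr 1
    exact Finset.sum_congr rfl fun a _ => Complex.mul_conj _
  have hm0 : ∀ ν μ, 0 ≤ m ν μ := by
    intro ν μ
    have h1 : (m ν μ : ℝ) = (Nat.card Γ : ℝ)⁻¹ * ∑ a, Complex.normSq (D ν μ a) := by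
      exact_mod_cast hnorm ν μ
    have h2 : (0 : ℝ) ≤ (m ν μ : ℝ) := by
      rw [h1]
      exact mul_nonneg (by positivity) (Finset.sum_nonneg fun a _ => Complex.normSq_nonneg _)
    exact_mod_cast h2
  have hmz : ∀ ν μ, m ν μ = 0 → ∀ a, A ν a = A μ a := by
    intro ν μ h a
    have h1 : (m ν μ : ℝ) = (Nat.card Γ : ℝ)⁻¹ * ∑ a, Complex.normSq (D ν μ a) := by
      exact_mod_cast hnorm ν μ
    rw [h, Int.cast_zero, eq_comm, mul_eq_zero] at h1
    rcases h1 with h1 | h1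
    · simp at h1
    rw [Finset.sum_eq_zero_iff_of_nonneg fun a _ => Complex.normSq_nonneg _] at h1
    exact sub_eq_zero.1 (Complex.normSq_eq_zero.1 (h1 a (Finset.mem_univ a)))
  have hm1 : ∀ ν, ν ≠ ν₀ → 1 ≤ m ν₀ ν ∧ 1 ≤ m ν ν₀ := by
    intro ν hν
    refine ⟨?_, ?_⟩ <;>
    · refine lt_of_le_of_ne (hm0 _ _) fun h => hν₀ ν hν ?_
      have := hmz _ _ h.symm 1
      rw [hn, hn] at this
      show (n ν₀ : ℤ) = n ν
      first | exact_mod_cast this | exact_mod_cast this.symm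
  have htot : ∑ ν, ∑ μ, m ν μ = 2 * ((q : ℤ) - 1) := by
    have h1 : ((∑ ν, ∑ μ, m ν μ : ℤ) : ℂ) = 2 * ((q : ℂ) - 1) := by
      push_cast
      simp only [← hm, classInner, ← Finset.mul_sum, D, Pi.sub_apply]
      rw [Finset.sum_congr rfl fun ν _ => Finset.sum_comm, Finset.sum_comm]
      rw [Finset.sum_congr rfl fun a _ => (hpt a), Finset.sum_const, Finset.card_univ, nsmul_eq_mul,
        Nat.card_eq_fintype_card, ← mul_assoc, inv_mul_cancel₀ (by
          exact_mod_cast (Fintype.card_ne_zero (α := Γ))), one_mul]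
    exact_mod_cast h1
  -- only the pairs at the special index count
  set O := Finset.univ.erase ν₀ with hO
  have hOcard : (O.card : ℤ) = (q : ℤ) - 1 := by
    rw [hO, Finset.card_erase_of_mem (Finset.mem_univ _), Finset.card_univ, hcardI,
      Nat.cast_sub (by omega)]
    simp
  have hrow : (O.card : ℤ) ≤ ∑ μ, m ν₀ μ := by
    have := Finset.card_nsmul_le_sum O (fun μ => m ν₀ μ) 1 fun μ hμ => (hm1 μ (Finset.mem_erase.1 hμ).1).1
    refine le_trans (by simpa using this) (Finset.sum_le_sum_of_subset_of_nonneg (Finset.subset_univ _) ?_)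
    exact fun μ _ _ => hm0 _ _
  have hrest : ∀ ν ∈ O, 1 + ∑ μ ∈ O, m ν μ ≤ ∑ μ, m ν μ := by
    intro ν hν
    rw [← Finset.add_sum_erase _ _ (Finset.mem_univ ν₀)]
    linarith [(hm1 ν (Finset.mem_erase.1 hν).1).2]
  have hzero : ∀ ν ∈ O, ∀ μ ∈ O, m ν μ = 0 := by
    have h1 := Finset.sum_le_sum hrest
    rw [Finset.sum_add_distrib, Finset.sum_const, nsmul_eq_mul, mul_one] at h1
    rw [← Finset.add_sum_erase _ _ (Finset.mem_univ ν₀), ← hO] at htot
    have h2 : ∑ ν ∈ O, ∑ μ ∈ O, m ν μ = 0 := by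
      refine le_antisymm (by linarith) (Finset.sum_nonneg fun _ _ => Finset.sum_nonneg fun _ _ => hm0 _ _)
    intro ν hν μ hμ
    have h3 := (Finset.sum_eq_zero_iff_of_nonneg fun _ _ => Finset.sum_nonneg fun _ _ => hm0 _ _).1 h2 ν hν
    exact (Finset.sum_eq_zero_iff_of_nonneg fun _ _ => hm0 _ _).1 h3 μ hμ
  obtain ⟨ν₁, hν₁⟩ : O.Nonempty := Finset.card_pos.1 (by omega)
  have hone : m ν₀ ν₁ = 1 := by
    have h1 : ∑ ν ∈ O, (1 + ∑ μ ∈ O, m ν μ) ≤ ∑ ν ∈ O, ∑ μ, m ν μ := Finset.sum_le_sum hrest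
    rw [Finset.sum_add_distrib, Finset.sum_const, nsmul_eq_mul, mul_one,
      Finset.sum_eq_zero (fun ν hν => Finset.sum_eq_zero (hzero ν hν)), add_zero] at h1
    rw [← Finset.add_sum_erase _ _ (Finset.mem_univ ν₀), ← hO] at htot
    have h4 : ∑ μ ∈ O, m ν₀ μ ≤ ∑ μ, m ν₀ μ :=
      Finset.sum_le_sum_of_subset_of_nonneg (Finset.subset_univ _) fun μ _ _ => hm0 _ _
    rw [← Finset.add_sum_erase O _ hν₁] at h4
    have h5 : ((O.erase ν₁).card : ℤ) ≤ ∑ μ ∈ O.erase ν₁, m ν₀ μ := by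
      have := Finset.card_nsmul_le_sum (O.erase ν₁) (fun μ => m ν₀ μ) 1 fun μ hμ =>
        (hm1 μ (Finset.mem_erase.1 (Finset.mem_of_mem_erase hμ)).1).1
      simpa using this
    rw [Finset.card_erase_of_mem hν₁] at h5
    have h6 := (hm1 ν₁ (Finset.mem_erase.1 hν₁).1).1
    omega
  obtain ⟨ψ, hψ⟩ : ∃ ψ : IrrCharacter Γ, D ν₀ ν₁ = (ψ : Γ → ℂ) ∨ D ν₀ ν₁ = -(ψ : Γ → ℂ) := by
    rcases Chars.isGeneralizedCharacter_norm_one (hDgen ν₀ ν₁) (by rw [hm, hone, Int.cast_one]) with h | h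
    · exact ⟨⟨_, h⟩, Or.inl rfl⟩
    · exact ⟨⟨_, h⟩, Or.inr (neg_neg (D ν₀ ν₁)).symm⟩
  obtain ⟨φ, hφ⟩ := Chars.exists_hom_of_degree_one (Chars.irr_isCharacter ψ) (by
    obtain ⟨k, -, hk⟩ := Chars.isIrrCharacter_exists_degree_pos ψ.2
    -- the degree is one
    have hsq : (D ν₀ ν₁ 1) * conj (D ν₀ ν₁ 1) = 1 := by
      have hp := hpt 1
      have hz : ∀ ν ∈ O, ∀ μ ∈ O, (A ν 1 - A μ 1) * conj (A ν 1 - A μ 1) = 0 := fun ν hν μ hμ => by
        rw [hmz ν μ (hzero ν hν μ hμ) 1, sub_self, zero_mul]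
      have hsame : ∀ ν ∈ O, A ν 1 = A ν₁ 1 := fun ν hν => hmz ν ν₁ (hzero ν hν ν₁ hν₁) 1
      have hval : ∑ ν, ∑ μ, (A ν 1 - A μ 1) * conj (A ν 1 - A μ 1) =
          (O.card : ℂ) * (2 * ((A ν₀ 1 - A ν₁ 1) * conj (A ν₀ 1 - A ν₁ 1))) := by
        rw [← Finset.add_sum_erase _ _ (Finset.mem_univ ν₀), ← hO,
          ← Finset.add_sum_erase _ _ (Finset.mem_univ ν₀), ← hO, sub_self, zero_mul, zero_add,
          Finset.sum_congr rfl (fun μ hμ => by rw [hsame μ hμ] : ∀ μ ∈ O,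
            (A ν₀ 1 - A μ 1) * conj (A ν₀ 1 - A μ 1) = (A ν₀ 1 - A ν₁ 1) * conj (A ν₀ 1 - A ν₁ 1)),
          Finset.sum_const, Finset.sum_congr rfl (fun ν hν => ?_ : ∀ ν ∈ O,
            ∑ μ, (A ν 1 - A μ 1) * conj (A ν 1 - A μ 1) = (A ν₀ 1 - A ν₁ 1) * conj (A ν₀ 1 - A ν₁ 1)),
          Finset.sum_const, nsmul_eq_mul]
        · ring
        · rw [← Finset.add_sum_erase _ _ (Finset.mem_univ ν₀), ← hO, Finset.sum_eq_zero (hz ν hν), add_zero,
            hsame ν hν]
          simp only [map_sub]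
          ring
      rw [hval, show (O.card : ℂ) = (q : ℂ) - 1 by exact_mod_cast hOcard] at hp
      have hq1 : (q : ℂ) - 1 ≠ 0 := by
        rw [sub_ne_zero]
        exact_mod_cast (show q ≠ 1 by omega)
      show (A ν₀ 1 - A ν₁ 1) * conj (A ν₀ 1 - A ν₁ 1) = 1
      apply mul_left_cancel₀ (mul_ne_zero hq1 (two_ne_zero (α := ℂ)))
      linear_combination hp
    rcases hψ with h | h <;> rw [h] at hsq
    · rw [hk] at hsq ⊢
      rw [Complex.conj_natCast] at hsq
      have : k * k = 1 := by exact_mod_cast hsq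
      rw [Nat.eq_one_of_mul_eq_one_left this, Nat.cast_one]
    · simp only [Pi.neg_apply, map_neg, neg_mul_neg] at hsq
      rw [hk] at hsq ⊢
      rw [Complex.conj_natCast] at hsq
      have : k * k = 1 := by exact_mod_cast hsq
      rw [Nat.eq_one_of_mul_eq_one_left this, Nat.cast_one])
  obtain ⟨ν', hν'⟩ := Chars.exists_hom_of_degree_one (Chars.irr_isCharacter ν₀) (hν1 ν₀)
  have hνval : ∀ p, (ν₀ : C → ℂ) p = (ν' p : ℂ) := fun p => congrFun hν' p
  refine ⟨D ν₀ ν₁, ν', ?_, ?_, ?_⟩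
  · rcases hψ with h | h <;> simp [h, hφ]
  · intro a b
    rcases hψ with h | h <;> simp [h, hφ]
  · intro a p hp
    have hzero' : ∑ ν : IrrCharacter C, (ν : C → ℂ) p = 0 := by
      have h1 := Chars.sum_degree_mul_irr (G := C) p
      rw [if_neg hp] at h1
      simpa [hν1] using h1
    rw [hexp, ← Finset.add_sum_erase _ _ (Finset.mem_univ ν₀), ← hO,
      Finset.sum_congr rfl fun ν hν => by rw [hmz ν ν₁ (hzero ν hν ν₁ hν₁) a], ← Finset.mul_sum,
      ← hνval]
    rw [← Finset.add_sum_erase _ _ (Finset.mem_univ ν₀), ← hO] at hzero'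
    show A ν₀ a * _ + A ν₁ a * _ = (A ν₀ a - A ν₁ a) * _
    linear_combination (A ν₁ a) * hzero'

end Cfsg.Agent.Lib.ExtendExtraTwo
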