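import Cfsg.Agent.Lib.ExtendExtraTwo.Cases
import Cfsg.Agent.Lib.ExtendExtraTwo.Lift
import Cfsg.Agent.Lib.ExtendExtraTwo.Inter
import Cfsg.Agent.Lib.ExtendExtraTwo.Parseval

/-!
The case of a normalised fixed-point-free isometry of prime order.
-/

set_option autoImplicit false

namespace Cfsg.Agent.Lib.ExtendExtraTwo

open Subgroup Cfsg.Agent.Lib.ExtraStruct Cfsg
open scoped ComplexConjugate

universe u v

variable {E : Type u} [Group E] [hE : Fact (ExtraLike 2 E)] [Finite E] {z : E} (hz : z ∈ center E)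
  (hz1 : z ≠ 1) {K : Subgroup (MulAut E)}
include hz hz1

theorem ext_field (hK : FPF K) {S : Type v} [Group S] [Finite S] (hS : IsPGroup 2 S) (f : S →* MulAut E)
    (hnorm : ∀ (x : S), ∀ k ∈ K, f x * k * (f x)⁻¹ ∈ K) {q : ℕ} {u : AddMonoid.End (M E)}
    (hu : FieldCase K f q u) : Ext z f := by
  classical
  let := Fintype.ofFinite E
  have hq := hu.prime
  have : Fact q.Prime := ⟨hq⟩
  have hne : q ≠ 2 := by
    rintro rfl
    refine hu.ne_one ?_
    have h2 : (u + 1) * (u + 1) = 0 := by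
      rw [add_mul, mul_add, one_mul, mul_one, ← sq, hu.pow_eq,
        show (1 : AddMonoid.End (M E)) + u + (u + 1) = (1 + 1) + (u + u) by abel, add_self_End, add_self_End,
        add_zero]
    exact (eq_neg_of_add_eq_zero_left (reduced hK (add_mem hu.mem (one_mem _)) h2)).trans (neg_End _)
  have hucomm : ∀ k ∈ K, act k * u = u * act k := fun k hk => commute_act_of_mem hu.mem hk
  have hbij : Function.Bijective u := by
    have h1 : ∀ m, (u ^ (q - 1)) (u m) = m := fun m => by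
      have := congrArg (fun a : AddMonoid.End (M E) => a m) hu.pow_eq
      rw [← Nat.sub_add_cancel hq.pos, pow_succ] at this
      exact this
    exact Finite.injective_iff_bijective.1 fun a b hab => by rw [← h1 a, ← h1 b, hab]
  obtain ⟨c, hcu, hcK⟩ := exists_commuting_lift hK u hbij hu.form_eq hucomm
  have huniq : ∀ a b : MulAut E, act a = act b → (∀ k ∈ K, k * a = a * k) → (∀ k ∈ K, k * b = b * k) →
      a = b := by
    intro a b hab ha hb
    refine (inv_mul_eq_one.1 (eq_one_of_commute hK (δ := a⁻¹ * b) ?_ fun k hk => ?_))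
    · rw [map_mul, ← hab, act_inv_mul]
    · exact ((show Commute k a from ha k hk).inv_right.mul_right (hb k hk)).eq
  have hcq : c ^ q = 1 := by
    refine huniq _ _ (by rw [map_pow, hcu, hu.pow_eq, map_one]) (fun k hk => ?_) (fun k _ => by simp)
    exact (show Commute k c from hcK k hk).pow_right q
  have hc1 : c ≠ 1 := fun h => hu.ne_one (by rw [← hcu, h, map_one])
  have hcord : orderOf c = q := orderOf_eq_prime hcq hc1
  have hconj : ∀ x : S, ∃ j : ℕ, f x * c * (f x)⁻¹ = c ^ j := by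
    intro x
    obtain ⟨j, hj⟩ := hu.conj x
    refine ⟨j, huniq _ _ ?_ (fun k hk => ?_) fun k hk => (show Commute k c from hcK k hk).pow_right j⟩
    · rw [map_mul, map_mul, map_pow, hcu]
      exact hj
    · have hk' : (f x)⁻¹ * k * f x ∈ K := by
        have := hnorm x⁻¹ k hk
        simpa using this
      calc k * (f x * c * (f x)⁻¹) = f x * (((f x)⁻¹ * k * f x) * c) * (f x)⁻¹ := by group
        _ = f x * (c * ((f x)⁻¹ * k * f x)) * (f x)⁻¹ := by rw [hcK _ hk']
        _ = f x * c * (f x)⁻¹ * k := by group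
  -- the centraliser of `c`
  let C := zpowers c
  have hmap : ∀ (x : S) (p : C), f x * p * (f x)⁻¹ ∈ C := by
    intro x p
    obtain ⟨i, hi⟩ := p.2
    obtain ⟨j, hj⟩ := hconj x
    rw [← hi, ← conj_zpow, hj]
    exact zpow_mem (pow_mem (mem_zpowers c) j) i
  let φ : S →* MulAut C := MonoidHom.mk' (fun x =>
    { toFun := fun p => ⟨f x * p * (f x)⁻¹, hmap x p⟩
      invFun := fun p => ⟨f x⁻¹ * p * (f x⁻¹)⁻¹, hmap x⁻¹ p⟩
      left_inv := fun p => Subtype.ext (by simp [mul_assoc])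
      right_inv := fun p => Subtype.ext (by simp [mul_assoc])
      map_mul' := fun a b => Subtype.ext (by simp [mul_assoc]) }) fun x y =>
    MulEquiv.ext fun p => Subtype.ext (by simp [mul_assoc])
  let S₀ := φ.ker
  have hS₀ : ∀ x ∈ S₀, Commute (f x) c := by
    intro x hx
    have h1 := congrArg (fun a : MulAut C => ((a ⟨c, mem_zpowers c⟩ : C) : MulAut E)) (MonoidHom.mem_ker.1 hx)
    exact mul_inv_eq_iff_eq_mul.1 h1
  have : Finite C := inferInstance
  have hcardC : Nat.card C = q := by rw [Nat.card_zpowers, hcord]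
  have hcycA : IsCyclic (MulAut C) := by
    have : IsCyclic C := inferInstance
    have e := IsCyclic.mulAutMulEquiv C
    rw [hcardC] at e
    exact isCyclic_of_surjective e.symm.toMonoidHom e.symm.surjective
  have hcyc : IsCyclic (S ⧸ S₀) :=
    isCyclic_of_injective (QuotientGroup.kerLift φ) (QuotientGroup.kerLift_injective φ)
  -- intertwiners
  obtain ⟨d, σ, hσ⟩ := exists_good hz hz1
  have := hσ.irreducible hz hz1
  have := hσ.nontrivial
  have hfix : ∀ α : MulAut E, α z = z := fun α => aut_center α hz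
  have hdpos : 0 < Module.finrank ℂ (Fin d → ℂ) := Module.finrank_pos
  have hroot : ∀ (n : ℕ), 0 < n → ∀ s : ℂˣ, ∃ t : ℂˣ, t ^ n = s := by
    intro n hn s
    obtain ⟨t, ht⟩ := IsAlgClosed.exists_pow_nat_eq (s : ℂ) hn
    have ht0 : t ≠ 0 := fun h => by rw [h, zero_pow hn.ne'] at ht; exact s.ne_zero ht.symm
    exact ⟨Units.mk0 t ht0, Units.ext (by simpa using ht)⟩
  have hsu := CharExt.scalarUnit_injective (V := Fin d → ℂ)
  -- the intertwiner over `c` of order `q`
  obtain ⟨P, hPtw, hPq⟩ : ∃ P, (c, P) ∈ Tw σ ∧ P ^ q = 1 := by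
    obtain ⟨P₀, hP₀⟩ := exists_tw hz hz1 hσ c (hfix c)
    have h1 : ((1 : MulAut E), P₀ ^ q) ∈ Tw σ := by
      have := (Tw σ).pow_mem hP₀ q
      rwa [Prod.pow_mk, hcq] at this
    obtain ⟨s, hs⟩ := tw_unique hz hz1 hσ ((Tw σ).one_mem) h1
    obtain ⟨t, ht⟩ := hroot q hq.pos s⁻¹
    refine ⟨CharExt.scalarUnit t * P₀, tw_scalar hP₀ t, ?_⟩
    rw [(CharExt.scalarUnit_commute t P₀).mul_pow, ← map_pow, ht, hs, mul_one, ← map_mul, inv_mul_cancel,
      map_one]
  have hP1 : P ≠ 1 := by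
    intro h
    refine hc1 (MulEquiv.ext fun x => ?_)
    have h1 : σ x = σ (c x) := by
      have := hPtw x
      rw [h] at this
      simpa using this
    have h2 : σ (x⁻¹ * c x) = 1 := by rw [map_mul, ← h1, ← map_mul, inv_mul_cancel, map_one]
    have h3 : σ.character (x⁻¹ * c x) = (Module.finrank ℂ (Fin d → ℂ) : ℂ) := by
      rw [Representation.character, h2, LinearMap.trace_one]
    have h4 : x⁻¹ * c x ∈ center E := by
      by_contra hcon
      rw [hσ.vanish hz hz1 hcon] at h3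
      exact hdpos.ne (by exact_mod_cast h3)
    rcases center_cases hz hz1 h4 with h5 | h5
    · exact (inv_mul_eq_one.1 h5).symm
    · exfalso
      rw [h5, hσ.map_z] at h2
      have h6 := congrArg (LinearMap.trace ℂ (Fin d → ℂ)) h2
      rw [map_neg, LinearMap.trace_one] at h6
      have : (Module.finrank ℂ (Fin d → ℂ) : ℂ) = 0 := by linear_combination (-(1 : ℂ) / 2) * h6
      exact hdpos.ne' (by exact_mod_cast this)
  have hPord : orderOf P = q := orderOf_eq_prime hPq hP1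
  have hScard : ∃ b, Nat.card S = 2 ^ b := by
    have : Fact (Nat.Prime 2) := ⟨Nat.prime_two⟩
    exact IsPGroup.iff_card.1 hS
  obtain ⟨b, hb⟩ := hScard
  have hcop : Nat.Coprime (2 ^ b) q :=
    ((Nat.coprime_primes Nat.prime_two hq).2 (Ne.symm hne)).pow_left b
  -- the finite intertwiner group over `S₀`
  let detU : (Module.End ℂ (Fin d → ℂ))ˣ →* ℂˣ := Units.map LinearMap.det
  have hdet : ∀ s : ℂˣ, detU (CharExt.scalarUnit s) = s ^ Module.finrank ℂ (Fin d → ℂ) := by
    intro s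
    apply Units.ext
    show LinearMap.det (algebraMap ℂ (Module.End ℂ (Fin d → ℂ)) (s : ℂ)) = _
    rw [Algebra.algebraMap_eq_smul_one, LinearMap.det_smul, map_one, mul_one, Units.val_pow_eq_pow_val]
  let Γ : Subgroup (S₀ × (Module.End ℂ (Fin d → ℂ))ˣ) :=
    { carrier := {p | (f p.1, p.2) ∈ Tw σ ∧ detU p.2 = 1}
      one_mem' := ⟨by
        show (f ((1 : S₀) : S), (1 : (Module.End ℂ (Fin d → ℂ))ˣ)) ∈ Tw σ
        rw [OneMemClass.coe_one, map_one]; exact (Tw σ).one_mem, map_one detU⟩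
      mul_mem' := fun {a b} ha hb => ⟨by
        show (f ((a.1 * b.1 : S₀) : S), a.2 * b.2) ∈ Tw σ
        rw [Subgroup.coe_mul, map_mul, ← Prod.mk_mul_mk]; exact (Tw σ).mul_mem ha.1 hb.1,
        by show detU (a.2 * b.2) = 1; rw [map_mul, ha.2, hb.2, one_mul]⟩
      inv_mem' := fun {a} ha => ⟨by
        show (f ((a.1⁻¹ : S₀) : S), a.2⁻¹) ∈ Tw σ
        rw [Subgroup.coe_inv, map_inv, ← Prod.inv_mk]; exact (Tw σ).inv_mem ha.1,
        by show detU a.2⁻¹ = 1; rw [map_inv, ha.2, inv_one]⟩ }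
  have hΓsurj : ∀ x : S₀, ∃ a : Γ, a.1.1 = x := by
    intro x
    obtain ⟨T, hT⟩ := exists_tw hz hz1 hσ (f x) (hfix _)
    obtain ⟨t, ht⟩ := hroot _ hdpos (detU T)⁻¹
    exact ⟨⟨(x, CharExt.scalarUnit t * T), tw_scalar hT t, by rw [map_mul, hdet, ht, inv_mul_cancel]⟩, rfl⟩
  choose sec hsec using hΓsurj
  have hΓfin : Finite Γ := by
    have : NeZero (Module.finrank ℂ (Fin d → ℂ)) := ⟨hdpos.ne'⟩
    have : ∀ a : Γ, ∃ t : rootsOfUnity (Module.finrank ℂ (Fin d → ℂ)) ℂ,
        a.1.2 = CharExt.scalarUnit (t : ℂˣ) * (sec a.1.1).1.2 := by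
      intro a
      have h1 := (sec a.1.1).2.1
      rw [hsec] at h1
      obtain ⟨t, ht⟩ := tw_unique hz hz1 hσ h1 a.2.1
      refine ⟨⟨t, (mem_rootsOfUnity _ _).2 ?_⟩, ht⟩
      have h2 : detU a.1.2 = 1 := a.2.2
      rw [ht, map_mul, (sec a.1.1).2.2, mul_one, hdet] at h2
      exact h2
    choose t ht using this
    refine Finite.of_injective (fun a : Γ => (a.1.1, t a)) fun a a' h => ?_
    have h' : (a.1.1, t a) = (a'.1.1, t a') := h
    have h1 : a.1.1 = a'.1.1 := (Prod.ext_iff.1 h').1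
    have h2 : t a = t a' := (Prod.ext_iff.1 h').2
    exact Subtype.ext (Prod.ext h1 ((ht a).trans (by rw [h2, h1, ← ht a'])))
  let := Fintype.ofFinite Γ
  -- commutation with `P`
  have hTP : ∀ (x : S₀) (T : (Module.End ℂ (Fin d → ℂ))ˣ), (f x, T) ∈ Tw σ → Commute T P := by
    intro x T hT
    have h1 := (Tw σ).mul_mem ((Tw σ).mul_mem hT hPtw) ((Tw σ).inv_mem hT)
    rw [Prod.inv_mk, Prod.mk_mul_mk, Prod.mk_mul_mk, (hS₀ x x.2).eq, mul_inv_cancel_right] at h1
    obtain ⟨l, hl⟩ := tw_unique hz hz1 hσ hPtw h1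
    have hlq : l ^ q = 1 := by
      have h2 := congrArg (· ^ q) hl
      simp only [conj_pow, (CharExt.scalarUnit_commute l P).mul_pow, hPq, mul_one, mul_inv_cancel, ← map_pow] at h2
      exact hsu (by rw [map_one]; exact h2.symm)
    have hiter : ∀ n : ℕ, T ^ n * P * (T ^ n)⁻¹ = CharExt.scalarUnit (l ^ n) * P := by
      intro n
      induction n with
      | zero => simp
      | succ n ih =>
        rw [pow_succ', mul_inv_rev, show T * T ^ n * P * ((T ^ n)⁻¹ * T⁻¹) = T * (T ^ n * P * (T ^ n)⁻¹) * T⁻¹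
          by simp only [mul_assoc], ih, ← mul_assoc T, ← (CharExt.scalarUnit_commute (l ^ n) T).eq,
          mul_assoc (CharExt.scalarUnit (l ^ n)) T P, mul_assoc (CharExt.scalarUnit (l ^ n)) (T * P) T⁻¹, hl,
          ← mul_assoc, ← map_mul, pow_succ]
    have hx : (x : S) ^ (2 ^ b) = 1 := by rw [← hb]; exact pow_card_eq_one'
    have h3 : ((1 : MulAut E), T ^ (2 ^ b)) ∈ Tw σ := by
      have := (Tw σ).pow_mem hT (2 ^ b)
      rwa [Prod.pow_mk, ← map_pow, hx, map_one] at this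
    obtain ⟨s, hs⟩ := tw_unique hz hz1 hσ ((Tw σ).one_mem) h3
    have h4 := hiter (2 ^ b)
    rw [hs, mul_one, (CharExt.scalarUnit_commute s P).eq, mul_inv_cancel_right] at h4
    have hl2 : l ^ (2 ^ b) = 1 := hsu (by
      rw [map_one]
      exact (mul_eq_right.1 h4.symm))
    have hl1 : l = 1 := by
      have h5 := pow_gcd_eq_one.2 ⟨hl2, hlq⟩
      rwa [hcop.gcd_eq_one, pow_one] at h5
    rw [hl1, map_one, one_mul] at hl
    exact mul_inv_eq_iff_eq_mul.1 hl
  let CP := zpowers P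
  have hfinCP : Finite CP := Nat.finite_of_card_ne_zero (by
    show Nat.card (zpowers P) ≠ 0
    rw [Nat.card_zpowers, hPord]; exact hq.ne_zero)
  let _ : CommGroup CP := IsCyclic.commGroup
  let := Fintype.ofFinite CP
  let R : Γ × CP →* (Module.End ℂ (Fin d → ℂ))ˣ :=
    MonoidHom.noncommCoprod ((MonoidHom.snd _ _).comp Γ.subtype) CP.subtype fun a p => by
      obtain ⟨i, hi⟩ := p.2
      show Commute a.1.2 (p : (Module.End ℂ (Fin d → ℂ))ˣ)
      rw [← hi]
      exact (hTP _ _ a.2.1).zpow_right i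
  let ρ : Representation ℂ (Γ × CP) (Fin d → ℂ) := (Units.coeHom _).comp R
  have hρval : ∀ (a : Γ) (p : CP), ρ.character (a, p) =
      LinearMap.trace ℂ _ ((a.1.2 * p : (Module.End ℂ (Fin d → ℂ))ˣ) : Module.End ℂ (Fin d → ℂ)) :=
    fun a p => rfl
  have habs : ∀ a p, p ≠ 1 → ρ.character (a, p) * conj (ρ.character (a, p)) = 1 := by
    intro a p hp
    obtain ⟨i, hi⟩ : ∃ i : ℕ, P ^ i = (p : (Module.End ℂ (Fin d → ℂ))ˣ) := by
      have h' := p.2
      obtain ⟨k, hk⟩ := h'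
      exact ⟨(k % (orderOf P : ℤ)).toNat, by
        rw [← zpow_natCast, Int.toNat_of_nonneg (Int.emod_nonneg _ (by rw [hPord]; exact_mod_cast hq.ne_zero)),
          zpow_mod_orderOf]
        exact hk⟩
    have hqi : ¬ q ∣ i := fun hd => hp (Subtype.ext (by
      rw [← hi, OneMemClass.coe_one, ← orderOf_dvd_iff_pow_eq_one, hPord]; exact hd))
    rw [← Chars.char_inv]
    show LinearMap.trace ℂ _ (R (a, p) : Module.End ℂ (Fin d → ℂ)) *
      LinearMap.trace ℂ _ (R (a, p)⁻¹ : Module.End ℂ (Fin d → ℂ)) = 1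
    rw [map_inv]
    refine trace_mul_trace_inv hz hz1 hσ (β := f a.1.1 * c ^ i) ?_ (fun w hw => ?_) (hfix _)
    · have h1 := (Tw σ).mul_mem a.2.1 ((Tw σ).pow_mem hPtw i)
      rw [Prod.pow_mk, Prod.mk_mul_mk] at h1
      show (_, a.1.2 * (p : (Module.End ℂ (Fin d → ℂ))ˣ)) ∈ Tw σ
      rw [← hi]
      exact h1
    · set β := f a.1.1 * c ^ i with hβ
      have h1 : act β (mk w) = mk w := by
        rw [act_mk]; exact (mk_eq_mk.2 hw).symm
      have hiter : ∀ n : ℕ, act (β ^ n) (mk w) = mk w := by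
        intro n
        induction n with
        | zero => rw [pow_zero]; exact act_one_apply _
        | succ n ih => rw [pow_succ, act_mul_apply, h1, ih]
      have h2 := hiter (2 ^ b)
      have hx : ((a.1.1 : S)) ^ (2 ^ b) = 1 := by rw [← hb]; exact pow_card_eq_one'
      rw [hβ, ((hS₀ _ a.1.1.2).pow_right i).mul_pow, ← map_pow, hx, map_one, one_mul, ← pow_mul,
        map_pow, hcu] at h2
      refine mk_eq_zero.1 (hu.free (i * 2 ^ b) (fun h => hqi ?_) _ h2)
      have h3 : c ^ (i * 2 ^ b) = 1 :=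
        huniq _ _ (by rw [map_pow, hcu, h, map_one]) (fun k hk => (show Commute k c from hcK k hk).pow_right _)
          (fun k _ => by simp)
      rw [← orderOf_dvd_iff_pow_eq_one, hcord] at h3
      exact hcop.symm.dvd_of_dvd_mul_right h3
  have hCPcard : Fintype.card CP = q := by
    rw [← Nat.card_eq_fintype_card, Nat.card_zpowers, hPord]
  obtain ⟨η, ν, hη1, hηmul, hval⟩ := exists_factor (by rw [hCPcard]; exact hq.two_le)
    (Chars.isCharacter_of_rep ρ) habs
  let tr : (Module.End ℂ (Fin d → ℂ))ˣ → ℂ := fun T =>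
    LinearMap.trace ℂ _ (T : Module.End ℂ (Fin d → ℂ))
  have htrs : ∀ (s : ℂˣ) (T : (Module.End ℂ (Fin d → ℂ))ˣ), tr (CharExt.scalarUnit s * T) = (s : ℂ) * tr T :=
    fun s T => trace_scalar_mul s (T : Module.End ℂ (Fin d → ℂ))
  have hP0 : (⟨P, mem_zpowers P⟩ : CP) ≠ 1 := fun h => hP1 (congrArg Subtype.val h)
  have htra : ∀ a : Γ, tr (a.1.2 * P) = η a * (ν ⟨P, mem_zpowers P⟩ : ℂ) := fun a => hval a _ hP0
  have htrP : tr P = η 1 * (ν ⟨P, mem_zpowers P⟩ : ℂ) := by
    have := htra 1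
    rwa [OneMemClass.coe_one, Prod.snd_one, one_mul] at this
  have hν0 : (ν ⟨P, mem_zpowers P⟩ : ℂ) ≠ 0 := Units.ne_zero _
  have hη0 : ∀ a, η a ≠ 0 := fun a h => by
    have := hηmul a a⁻¹
    rw [mul_inv_cancel, h, zero_mul, mul_self_eq_zero] at this
    exact hη1 this
  -- normalised intertwiners
  have hnex : ∀ x : S₀, ∃ T, (f x, T) ∈ Tw σ ∧ tr (T * P) = tr P := by
    intro x
    have h0 : η 1 / η (sec x) ≠ 0 := div_ne_zero hη1 (hη0 _)
    refine ⟨CharExt.scalarUnit (Units.mk0 _ h0) * (sec x).1.2, tw_scalar (by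
      have := (sec x).2.1; rwa [hsec] at this) _, ?_⟩
    rw [mul_assoc, htrs, htra, htrP, Units.val_mk0]
    field_simp [hη0 (sec x)]
  choose R₀ hR₀tw hR₀tr using hnex
  have hdiff : ∀ (x : S₀) (T : (Module.End ℂ (Fin d → ℂ))ˣ), (f x, T) ∈ Tw σ → tr (T * P) = tr P →
      T = R₀ x := by
    intro x T hT hTt
    obtain ⟨s, hs⟩ := tw_unique hz hz1 hσ (hR₀tw x) hT
    have h1 : (s : ℂ) = 1 := by
      rw [hs, mul_assoc, htrs, hR₀tr] at hTt
      exact (mul_eq_right₀ (by rw [htrP]; exact mul_ne_zero hη1 hν0)).1 hTt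
    rw [hs, show s = 1 from Units.ext h1, map_one, one_mul]
  have hlift : ∀ x : S₀, ∃ (s : ℂˣ) (a : Γ), a.1.1 = x ∧ R₀ x = CharExt.scalarUnit s * a.1.2 ∧
      (s : ℂ) * η a = η 1 := by
    intro x
    have h1 := (sec x).2.1
    rw [hsec] at h1
    obtain ⟨s, hs⟩ := tw_unique hz hz1 hσ h1 (hR₀tw x)
    refine ⟨s, sec x, hsec x, hs, ?_⟩
    have h2 := hR₀tr x
    rw [hs, mul_assoc, htrs, htra, htrP, ← mul_assoc] at h2
    exact mul_right_cancel₀ hν0 h2
  have hR₀mul : ∀ x y : S₀, R₀ (x * y) = R₀ x * R₀ y := by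
    intro x y
    refine (hdiff _ _ ?_ ?_).symm
    · rw [Subgroup.coe_mul, map_mul, ← Prod.mk_mul_mk]
      exact (Tw σ).mul_mem (hR₀tw x) (hR₀tw y)
    obtain ⟨s, a, -, hs, hsv⟩ := hlift x
    obtain ⟨t, a', -, ht, htv⟩ := hlift y
    rw [hs, ht, htrP, show CharExt.scalarUnit s * a.1.2 * (CharExt.scalarUnit t * a'.1.2) * P =
        CharExt.scalarUnit (s * t) * ((a * a').1.2 * P) by
          show _ = CharExt.scalarUnit (s * t) * (a.1.2 * a'.1.2 * P)
          rw [map_mul, mul_assoc (CharExt.scalarUnit s) a.1.2, ← mul_assoc a.1.2,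
            ← (CharExt.scalarUnit_commute t a.1.2).eq]
          simp only [mul_assoc],
      htrs, htra, Units.val_mul]
    apply mul_left_cancel₀ hη1
    calc η 1 * ((s : ℂ) * t * (η (a * a') * (ν ⟨P, mem_zpowers P⟩ : ℂ)))
        = (s : ℂ) * t * (η (a * a') * η 1) * ν ⟨P, mem_zpowers P⟩ := by ring
      _ = ((s : ℂ) * η a) * ((t : ℂ) * η a') * ν ⟨P, mem_zpowers P⟩ := by rw [hηmul]; ring
      _ = η 1 * (η 1 * (ν ⟨P, mem_zpowers P⟩ : ℂ)) := by rw [hsv, htv]; ring
  let R₀h : S₀ →* (Module.End ℂ (Fin d → ℂ))ˣ := MonoidHom.mk' R₀ hR₀mul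
  let N := S₀.comap (SemidirectProduct.rightHom (φ := f))
  let RN : Representation ℂ N (Fin d → ℂ) :=
    { toFun := fun n => σ n.1.left * (R₀h ⟨n.1.right, n.2⟩ : Module.End ℂ (Fin d → ℂ))
      map_one' := by
        rw [show (⟨(1 : N).1.right, (1 : N).2⟩ : S₀) = 1 from Subtype.ext rfl, map_one R₀h]
        simp
      map_mul' := fun a a' => by
        rw [show (⟨(a * a').1.right, (a * a').2⟩ : S₀) = ⟨a.1.right, a.2⟩ * ⟨a'.1.right, a'.2⟩ from
          Subtype.ext rfl, map_mul R₀h, Subgroup.coe_mul, SemidirectProduct.mul_left, map_mul, Units.val_mul]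
        rw [mul_assoc (σ a.1.left), ← mul_assoc (σ (f a.1.right a'.1.left)),
          ← (show (R₀h ⟨a.1.right, a.2⟩ : Module.End ℂ (Fin d → ℂ)) * σ a'.1.left =
            σ (f a.1.right a'.1.left) * R₀h ⟨a.1.right, a.2⟩ from hR₀tw ⟨a.1.right, a.2⟩ a'.1.left)]
        simp only [mul_assoc] }
  have hRNval : ∀ n : N, RN n = σ n.1.left * (R₀ ⟨n.1.right, n.2⟩ : Module.End ℂ (Fin d → ℂ)) := fun n => rfl
  have hR₀one : R₀ 1 = 1 := map_one R₀h
  refine ext_of_cyclic hz hz1 f S₀ (hcyc := hcyc) RN ?_ ?_ ?_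
  · show σ z * (R₀h (1 : S₀) : Module.End ℂ (Fin d → ℂ)) = -1
    rw [map_one R₀h, Units.val_one, mul_one]
    exact hσ.map_z
  · have := hσ.degree
    rwa [Module.finrank_fin_fun] at this
  intro g n
  -- conjugation by a complement element
  have hinr : ∀ (s : S) (n : N),
      RN.character (MulAut.conjNormal (SemidirectProduct.inr s : E ⋊[f] S) n) = RN.character n := by
    intro s n
    obtain ⟨Ts, hTs⟩ := exists_tw hz hz1 hσ (f s) (hfix _)
    set x : S₀ := ⟨n.1.right, n.2⟩ with hx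
    have hxs : s * (x : S) * s⁻¹ ∈ S₀ := (MonoidHom.normal_ker φ).conj_mem _ x.2 s
    have hU : Ts * R₀ x * Ts⁻¹ = R₀ ⟨_, hxs⟩ := by
      refine hdiff _ _ ?_ ?_
      · show (f (s * (x : S) * s⁻¹), _) ∈ Tw σ
        rw [map_mul, map_mul, map_inv, ← Prod.mk_mul_mk, ← Prod.mk_mul_mk, ← Prod.inv_mk]
        exact (Tw σ).mul_mem ((Tw σ).mul_mem hTs (hR₀tw x)) ((Tw σ).inv_mem hTs)
      obtain ⟨j, hj⟩ := hconj s⁻¹
      rw [map_inv, inv_inv] at hj
      have hQ : (c ^ j, Ts⁻¹ * P * Ts) ∈ Tw σ := by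
        rw [← hj]
        have := (Tw σ).mul_mem ((Tw σ).mul_mem ((Tw σ).inv_mem hTs) hPtw) hTs
        simpa only [Prod.inv_mk, Prod.mk_mul_mk] using this
      obtain ⟨l, hl⟩ := tw_unique hz hz1 hσ (α := c ^ j) (by
        have := (Tw σ).pow_mem hPtw j
        rwa [Prod.pow_mk] at this) hQ
      have hjq : (⟨P ^ j, pow_mem (mem_zpowers P) j⟩ : CP) ≠ 1 := by
        intro h
        have h' : P ^ j = 1 := congrArg Subtype.val h
        rw [← orderOf_dvd_iff_pow_eq_one, hPord] at h'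
        obtain ⟨i, rfl⟩ := h'
        have : c = 1 := by
          have h5 : (f s)⁻¹ * c * f s = 1 := by simpa [pow_mul, hcq] using hj
          rw [mul_assoc, inv_mul_eq_iff_eq_mul, mul_one] at h5
          exact mul_eq_right.1 h5
        exact hc1 this
      have hkey : ∀ a : Γ, tr (a.1.2 * (Ts⁻¹ * P * Ts)) = η a * ((l : ℂ) * ν ⟨P ^ j, pow_mem (mem_zpowers P) j⟩) := by
        intro a
        rw [hl, ← mul_assoc, ← (CharExt.scalarUnit_commute l a.1.2).eq, mul_assoc, htrs,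
          show tr (a.1.2 * P ^ j) = _ from hval a ⟨P ^ j, pow_mem (mem_zpowers P) j⟩ hjq]
        ring
      have h1 : tr (Ts⁻¹ * P * Ts) = tr P := by
        simp only [tr, Units.val_mul]
        rw [LinearMap.trace_mul_cycle, Units.mul_inv, one_mul]
      obtain ⟨t, a, -, ht, htv⟩ := hlift x
      have h2 : tr (Ts * R₀ x * Ts⁻¹ * P) = tr (R₀ x * (Ts⁻¹ * P * Ts)) := by
        simp only [tr, Units.val_mul]
        rw [mul_assoc _ ((Ts⁻¹ : (Module.End ℂ (Fin d → ℂ))ˣ) : Module.End ℂ (Fin d → ℂ)),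
          LinearMap.trace_mul_comm, ← mul_assoc, LinearMap.trace_mul_comm]
      have h3 := hkey 1
      rw [OneMemClass.coe_one, Prod.snd_one, one_mul, h1] at h3
      rw [h2, ht, mul_assoc, htrs, hkey, h3, ← mul_assoc, htv]
    rw [Representation.character, Representation.character, hRNval, hRNval]
    have e2 : R₀ ⟨(MulAut.conjNormal (SemidirectProduct.inr s : E ⋊[f] S) n).1.right,
        (MulAut.conjNormal (SemidirectProduct.inr s : E ⋊[f] S) n).2⟩ = R₀ ⟨_, hxs⟩ := by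
      refine congrArg R₀ (Subtype.ext ?_)
      simp [hx, MulAut.conjNormal_apply]
    have e1 : (MulAut.conjNormal (SemidirectProduct.inr s : E ⋊[f] S) n).1.left = f s n.1.left := by
      simp [MulAut.conjNormal_apply]
    rw [e1, e2, ← hU, Units.val_mul, Units.val_mul]
    have h3 := hTs n.1.left
    change (Ts : Module.End ℂ (Fin d → ℂ)) * σ n.1.left = σ (f s n.1.left) * Ts at h3
    rw [← mul_assoc (σ (f s n.1.left)), ← mul_assoc (σ (f s n.1.left)), ← h3, mul_assoc (Ts : Module.End ℂ (Fin d → ℂ)),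
      LinearMap.trace_mul_cycle, Units.inv_mul, one_mul]
  rw [show MulAut.conjNormal g n = (⟨SemidirectProduct.inl g.left, by simp [N]⟩ : N) *
      MulAut.conjNormal (SemidirectProduct.inr g.right : E ⋊[f] S) n *
      (⟨SemidirectProduct.inl g.left, by simp [N]⟩ : N)⁻¹ from Subtype.ext (by
        show g * n.1 * g⁻¹ = SemidirectProduct.inl g.left * (SemidirectProduct.inr g.right * n.1 *
          (SemidirectProduct.inr g.right)⁻¹) * (SemidirectProduct.inl g.left)⁻¹
        conv_lhs => rw [← SemidirectProduct.inl_left_mul_inr_right g]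
        group), Representation.char_conj, hinr]

end Cfsg.Agent.Lib.ExtendExtraTwo
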