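import Cfsg.Agent.Lib.ExtendExtraTwo.Pair
import Cfsg.Agent.Lib.ExtendExtraTwo.Field

/-!
The faithful irreducible character of an extraspecial `2`-group extends to the semidirect product with a `2`-group
normalising an odd group of automorphisms without fixed points modulo the centre.
-/

set_option autoImplicit false

namespace Cfsg.Agent.Lib.ExtendExtraTwo

open Subgroup Cfsg.Agent.Lib.ExtraStruct Cfsg
open scoped commutatorElement

universe u v

variable {E : Type u} [Group E] [hE : Fact (ExtraLike 2 E)] [Finite E] {K : Subgroup (MulAut E)}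

theorem Proj.compl {e : AddMonoid.End (M E)} (he : Proj K e) : Proj K (1 + e) :=
  ⟨add_mem (one_mem _) he.mem, by
    rw [add_mul, mul_add, mul_add, one_mul, mul_one, one_mul, he.idem, add_self_End, add_zero],
    isAdj_one.add he.adj⟩

theorem Proj.compl_ne {e : AddMonoid.End (M E)} (h0 : e ≠ 0) : 1 + e ≠ 1 := fun h =>
  h0 (add_left_cancel (h.trans (add_zero _).symm))

/-- The two halves of an orthogonal idempotent. -/
theorem Proj.halves {e e' : AddMonoid.End (M E)} (he : Proj K e) (hs : e + e' = 1) :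
    Halves (eSub e) (eSub e') := by
  have he' : e' = 1 + e := by rw [← hs, add_comm e e', add_assoc, add_self_End, add_zero]
  subst he'
  have h0 : e * (1 + e) = 0 := by rw [mul_add, mul_one, he.idem, add_self_End]
  refine ⟨center_le_eSub e, center_le_eSub _, fun a ha b hb => ?_, fun x => ?_, fun x hx hx' => ?_⟩
  · have h1 : form (ExtendExtraTwo.mk a) (ExtendExtraTwo.mk b) = 0 := by
      rw [← (show e (ExtendExtraTwo.mk a) = ExtendExtraTwo.mk a from ha), ← (show (1 + e) (ExtendExtraTwo.mk b) = ExtendExtraTwo.mk b from hb), he.adj,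
        show e ((1 + e) (ExtendExtraTwo.mk b)) = 0 from congrArg (fun a : AddMonoid.End (M E) => a (ExtendExtraTwo.mk b)) h0,
        form_zero_right]
    rw [form_mk, ExtraTwoCoord.bit_eq_zero, commutatorElement_eq_one_iff_mul_comm] at h1
    exact h1
  · refine ⟨lift (e (ExtendExtraTwo.mk x)), ?_, (lift (e (ExtendExtraTwo.mk x)))⁻¹ * x, ?_, mul_inv_cancel_left _ _⟩
    · show e (ExtendExtraTwo.mk _) = ExtendExtraTwo.mk _
      rw [mk_lift]
      exact congrArg (fun a : AddMonoid.End (M E) => a (ExtendExtraTwo.mk x)) he.idem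
    · have h1 : ExtendExtraTwo.mk ((lift (e (ExtendExtraTwo.mk x)))⁻¹ * x) = (1 + e) (ExtendExtraTwo.mk x) := by
        rw [mk_mul, show ExtendExtraTwo.mk (lift (e (ExtendExtraTwo.mk x)))⁻¹ = -ExtendExtraTwo.mk (lift (e (ExtendExtraTwo.mk x))) from rfl, mk_lift, neg_M, add_comm]
        rfl
      show (1 + e) (ExtendExtraTwo.mk _) = ExtendExtraTwo.mk _
      rw [h1]
      exact congrArg (fun a : AddMonoid.End (M E) => a (ExtendExtraTwo.mk x)) he.compl.idem
  · refine mk_eq_zero.1 ?_
    rw [← (show e (ExtendExtraTwo.mk x) = ExtendExtraTwo.mk x from hx), ← (show (1 + e) (ExtendExtraTwo.mk x) = ExtendExtraTwo.mk x from hx')]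
    exact congrArg (fun a : AddMonoid.End (M E) => a (ExtendExtraTwo.mk x)) h0

theorem card_eSub_lt {e : AddMonoid.End (M E)} (h1 : e ≠ 1) : Nat.card (eSub e) < Nat.card E := by
  refine lt_of_le_of_ne (Nat.card_le_card_of_injective _ (eSub e).subtype_injective) fun h => h1 ?_
  refine AddMonoidHom.ext fun m => ?_
  obtain ⟨x, rfl⟩ := mk_surjective m
  exact (show x ∈ eSub e from (Subgroup.card_eq_iff_eq_top _).1 h ▸ Subgroup.mem_top x)

omit hE [Finite E] in
theorem mem_stabSub_of_cj [Fact (ExtraLike 2 E)] [Finite E] {e : AddMonoid.End (M E)} {α : MulAut E}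
    (h : cj α e = e) : α ∈ stabSub (eSub e) := fun x => mem_eSub_act h x

/-- The restriction of the odd group to a half. -/
theorem fpf_restrict (hK : FPF K) {e e' : AddMonoid.End (M E)} (he : Proj K e) (hs : e + e' = 1) :
    haveI : Fact (ExtraLike 2 (eSub e)) := ⟨(he.halves hs).extraLike⟩
    FPF ((K.subgroupOf (stabSub (eSub e))).map (resAut (eSub e))) := by
  have hH := he.halves hs
  haveI : Fact (ExtraLike 2 (eSub e)) := ⟨hH.extraLike⟩
  have hKle : K ≤ stabSub (eSub e) := fun k hk =>
    mem_stabSub_of_cj (cj_of_commute (commute_act_of_mem he.mem hk))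
  refine ⟨?_, fun m hm => ?_⟩
  · refine hK.odd.of_dvd_nat ?_
    rw [← Nat.card_congr (subgroupOfEquivOfLe hKle).toEquiv]
    exact Subgroup.card_map_dvd _ (resAut (eSub e))
  · obtain ⟨w, rfl⟩ := mk_surjective m
    have hw : mk (w : E) = 0 := by
      refine hK.fixed _ fun k hk => ?_
      have h1 := hm (resAut (eSub e) ⟨k, hKle hk⟩) (Subgroup.mem_map_of_mem _ hk)
      rw [act_mk, mk_eq_mk, hH.center_eq, Subgroup.mem_subgroupOf] at h1
      rw [act_mk, mk_eq_mk]
      exact h1
    rw [mk_eq_zero, hH.center_eq, Subgroup.mem_subgroupOf]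
    exact mk_eq_zero.1 hw

theorem norm_restrict {e : AddMonoid.End (M E)} {S : Type v} [Group S] (g : S →* MulAut E)
    (hg : ∀ (x : S), ∀ k ∈ K, g x * k * (g x)⁻¹ ∈ K) (hst : ∀ x, g x ∈ stabSub (eSub e)) :
    ∀ (x : S), ∀ k ∈ (K.subgroupOf (stabSub (eSub e))).map (resAut (eSub e)),
      (resAut (eSub e)).comp (g.codRestrict _ hst) x * k * ((resAut (eSub e)).comp (g.codRestrict _ hst) x)⁻¹
        ∈ (K.subgroupOf (stabSub (eSub e))).map (resAut (eSub e)) := by
  rintro x _ ⟨k, hk, rfl⟩
  refine ⟨(g.codRestrict _ hst x) * k * (g.codRestrict _ hst x)⁻¹, hg x k hk, ?_⟩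
  rw [map_mul, map_mul, map_inv]
  rfl

theorem ext_main : ∀ (n : ℕ) (E : Type u) [Group E] [Finite E] [hE : Fact (ExtraLike 2 E)], Nat.card E = n →
    ∀ (z : E), z ∈ center E → z ≠ 1 → ∀ (K : Subgroup (MulAut E)), FPF K →
    ∀ (S : Type v) [Group S] [Finite S], IsPGroup 2 S → ∀ (f : S →* MulAut E),
    (∀ (x : S), ∀ k ∈ K, f x * k * (f x)⁻¹ ∈ K) → Ext z f := by
  intro n
  induction n using Nat.strong_induction_on with
  | _ n ih =>
    intro E _ _ hE hn z hz hz1 K hK S _ _ hS f hnorm
    by_cases hM : ∃ m : M E, m ≠ 0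
    swap
    · push Not at hM
      have hall : ∀ x : E, x ∈ center E := fun x => mk_eq_zero.1 (hM _)
      let φ : E ⋊[f] S →* ℂˣ :=
        MonoidHom.mk' (fun p => sgn (⟨p.left, hall _⟩ : center E)) fun a b => by
          rw [← map_mul]
          congr 1
          exact Subtype.ext (by
            rw [SemidirectProduct.mul_left, aut_center _ (hall b.left)]
            rfl)
      refine ext_of_character hz hz1 f (Chars.isCharacter_hom φ) ?_ ?_
      · show ((sgn (⟨(SemidirectProduct.inl z : E ⋊[f] S).left, _⟩ : center E) : ℂˣ) : ℂ) =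
          -((φ 1 : ℂˣ) : ℂ)
        rw [map_one φ, Units.val_one]
        simp [sgn, hz1]
      · rw [map_one φ, Units.val_one]
        have h2 : Nat.card E = 2 := by
          have := hE.out.card_center
          rwa [show center E = ⊤ from eq_top_iff.2 fun x _ => hall x, Subgroup.card_top] at this
        rw [h2]
        norm_num
    have hrec : ∀ e e', Proj K e → e + e' = 1 → e ≠ 1 → ∀ (T : Type v) [Group T] [Finite T], IsPGroup 2 T →
        ∀ (g : T →* MulAut E), (∀ (x : T), ∀ k ∈ K, g x * k * (g x)⁻¹ ∈ K) →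
        ∀ (hst : ∀ x, g x ∈ stabSub (eSub e)) (hc : center E ≤ eSub e),
        Ext (⟨z, hc hz⟩ : eSub e) ((resAut (eSub e)).comp (g.codRestrict _ hst)) := by
      intro e e' he hs h1 T _ _ hT g hg hst hc
      haveI : Fact (ExtraLike 2 (eSub e)) := ⟨(he.halves hs).extraLike⟩
      exact ih _ (hn ▸ card_eSub_lt h1) (eSub e) rfl _
        (by rw [(he.halves hs).center_eq]; exact hz) (fun h => hz1 (congrArg Subtype.val h)) _
        (fpf_restrict hK he hs) T hT _ (norm_restrict g hg hst)
    by_cases hp : ∃ e, Proj K e ∧ e ≠ 0 ∧ e ≠ 1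
    · obtain ⟨e₀, he₀, h0, h1⟩ := hp
      rcases cases_of_proj hS f hnorm he₀ h0 h1 with ⟨e, he, he0, he1, hfix⟩ | ⟨e, S₁, he, he0, he1, hidx, hin, hout⟩
      · have hs : e + (1 + e) = 1 := by rw [add_left_comm, add_self_End, add_zero]
        have hs' : (1 + e) + e = 1 := by rw [add_assoc, add_self_End, add_zero]
        have hH := he.halves hs
        have hst : ∀ x, f x ∈ stabSub (eSub e) := fun x => mem_stabSub_of_cj (hfix x)
        have hst' : ∀ x, f x ∈ stabSub (eSub (1 + e)) := fun x =>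
          mem_stabSub_of_cj (by rw [cj_add, cj_one, hfix])
        exact ext_split hz hz1 hH f _ _ (fun _ _ => rfl) (fun _ _ => rfl)
          (hrec e (1 + e) he hs he1 S hS f hnorm hst hH.center_le₁)
          (hrec (1 + e) e he.compl hs' (Proj.compl_ne he0) S hS f hnorm hst' hH.center_le₂)
      · obtain ⟨s, hs⟩ : ∃ s, s ∉ S₁ := by
          by_contra! h
          rw [show S₁ = ⊤ from eq_top_iff.2 fun x _ => h x, Subgroup.index_top] at hidx
          omega
        have hH := he.halves (hout s hs)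
        exact ext_swap hz hz1 f S₁ hidx hH (fun x hx => mem_stabSub_of_cj (hin x hx)) s hs
          (fun a => mem_eSub_act rfl a)
          (hrec e _ he (hout s hs) he1 S₁ (hS.to_subgroup S₁) (f.comp S₁.subtype) (fun x => hnorm x)
            (fun x => mem_stabSub_of_cj (hin x x.2)) hH.center_le₁)
    push Not at hp
    rcases cases_of_no_proj hK hM f hnorm (fun e he => or_iff_not_imp_left.2 (hp e he)) with
      ⟨e, e', he, he', hee, hee', h00, h11, hadj, -, -, hcase⟩ | ⟨q, u, hu⟩
    · have h : Lagr K e e' := ⟨he, hee, h00, by rw [coreAlg_comm he' he]; exact h00, h11, hadj, hee'⟩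
      exact ext_pair hz hz1 hK f hnorm h (h.swap he') hcase
    · exact ext_field hz hz1 hK hS f hnorm hu

end Cfsg.Agent.Lib.ExtendExtraTwo
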