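import Cfsg.Agent.Lib.ExtendExtraTwo.Rep
import Cfsg.Agent.Lib.Chars.Ops

/-!
Central products: a character on a product from characters on the factors, and the extension to two interchanged
factors.
-/

set_option autoImplicit false

namespace Cfsg.Agent.Lib.ExtendExtraTwo

open Subgroup Cfsg.Agent.Lib.ExtraStruct Cfsg
open scoped commutatorElement

universe u v w

/-- A character trivial on a kernel comes from the image. -/
theorem exists_descend {H : Type u} {G : Type v} [Group H] [Finite H] [Group G] (π : H →* G)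
    (hπ : Function.Surjective π) {χ : H → ℂ} (hχ : IsCharacter H χ)
    (hker : ∀ k ∈ π.ker, χ k = χ 1) : ∃ χ', IsCharacter G χ' ∧ ∀ h, χ' (π h) = χ h := by
  obtain ⟨d, ρ, rfl⟩ := hχ
  have hle : π.ker ≤ MonoidHom.ker ρ.toHomUnits := fun k hk =>
    MonoidHom.mem_ker.2 (Units.ext ((Chars.rep_eq_one_iff ρ k).2 (hker k hk)))
  let R : G →* (Module.End ℂ (Fin d → ℂ))ˣ := π.liftOfSurjective hπ ⟨ρ.toHomUnits, hle⟩
  refine ⟨Representation.character ((Units.coeHom _).comp R : Representation ℂ G (Fin d → ℂ)),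
    ⟨d, _, rfl⟩, fun h => ?_⟩
  have h1 : R (π h) = ρ.toHomUnits h :=
    π.liftOfRightInverse_comp_apply _ (Function.rightInverse_surjInv hπ) ⟨ρ.toHomUnits, hle⟩ h
  show LinearMap.trace ℂ _ ((R (π h) : (Module.End ℂ (Fin d → ℂ))ˣ) : Module.End ℂ (Fin d → ℂ)) = _
  rw [h1]
  rfl

variable {E : Type u} [Group E]

/-- The automorphisms preserving a subgroup. -/
def stabSub (E₁ : Subgroup E) : Subgroup (MulAut E) where
  carrier := {α | ∀ x, α x ∈ E₁ ↔ x ∈ E₁}
  one_mem' := fun _ => Iff.rfl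
  mul_mem' := fun {a b} ha hb x => (ha (b x)).trans (hb x)
  inv_mem' := fun {a} ha x => by
    conv_rhs => rw [← MulAut.apply_inv_self E a x, ha]

/-- Restriction to an invariant subgroup. -/
def resAut (E₁ : Subgroup E) : stabSub E₁ →* MulAut E₁ where
  toFun α :=
    { toFun := fun x => ⟨(α : MulAut E) (x : E), (α.2 x).2 x.2⟩
      invFun := fun x => ⟨(α : MulAut E)⁻¹ (x : E), ((stabSub E₁).inv_mem α.2 x).2 x.2⟩
      left_inv := fun x => Subtype.ext (MulAut.inv_apply_self E _ _)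
      right_inv := fun x => Subtype.ext (MulAut.apply_inv_self E _ _)
      map_mul' := fun x y => Subtype.ext (map_mul (α : MulAut E) (x : E) (y : E)) }
  map_one' := MulEquiv.ext fun _ => rfl
  map_mul' _ _ := MulEquiv.ext fun _ => rfl

theorem resAut_coe (E₁ : Subgroup E) (α : stabSub E₁) (x : E₁) :
    ((resAut E₁ α x : E₁) : E) = (α : MulAut E) x := rfl

/-- Two commuting subgroups generating `E` and meeting in its centre. -/
structure Halves (E₁ E₂ : Subgroup E) : Prop where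
  center_le₁ : center E ≤ E₁
  center_le₂ : center E ≤ E₂
  comm : ∀ a ∈ E₁, ∀ b ∈ E₂, Commute a b
  surj : ∀ x, ∃ a ∈ E₁, ∃ b ∈ E₂, a * b = x
  inter : ∀ x ∈ E₁, x ∈ E₂ → x ∈ center E

theorem Halves.swap {E₁ E₂ : Subgroup E} (h : Halves E₁ E₂) : Halves E₂ E₁ :=
  ⟨h.center_le₂, h.center_le₁, fun a ha b hb => (h.comm b hb a ha).symm,
    fun x => by
      obtain ⟨a, ha, b, hb, rfl⟩ := h.surj x
      exact ⟨b, hb, a, ha, (h.comm a ha b hb).eq.symm⟩,
    fun x hx hx' => h.inter x hx' hx⟩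

theorem Halves.center_eq {E₁ E₂ : Subgroup E} (h : Halves E₁ E₂) :
    center E₁ = (center E).subgroupOf E₁ := by
  ext a
  rw [mem_subgroupOf, mem_center_iff, mem_center_iff]
  refine ⟨fun ha x => ?_, fun ha b => Subtype.ext (ha b)⟩
  obtain ⟨b, hb, c, hc, rfl⟩ := h.surj x
  have h1 : Commute b (a : E) := congrArg Subtype.val (ha ⟨b, hb⟩)
  have h2 : Commute c (a : E) := (h.comm a a.2 c hc).symm
  exact (h1.mul_left h2).eq

theorem Halves.extraLike [hE : Fact (ExtraLike 2 E)] {E₁ E₂ : Subgroup E} (h : Halves E₁ E₂) :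
    ExtraLike 2 E₁ := by
  refine ⟨?_, fun a b => ?_, fun a => ?_⟩
  · rw [h.center_eq, Nat.card_congr (subgroupOfEquivOfLe h.center_le₁).toEquiv, hE.out.card_center]
  · rw [h.center_eq, mem_subgroupOf]
    exact hE.out.comm_mem a b
  · rw [h.center_eq, mem_subgroupOf]
    exact hE.out.pow_mem a

theorem Halves.card_mul [hE : Fact (ExtraLike 2 E)] [Finite E] {E₁ E₂ : Subgroup E} (h : Halves E₁ E₂) :
    Nat.card E₁ * Nat.card E₂ = 2 * Nat.card E := by
  let μ : E₁ × E₂ →* E :=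
    MonoidHom.noncommCoprod E₁.subtype E₂.subtype fun a b => h.comm a a.2 b b.2
  have hsurj : Function.Surjective μ := fun x => by
    obtain ⟨a, ha, b, hb, hab⟩ := h.surj x
    exact ⟨(⟨a, ha⟩, ⟨b, hb⟩), hab⟩
  have hker : Nat.card μ.ker = 2 := by
    rw [← hE.out.card_center]
    refine Nat.card_congr
      { toFun := fun p => ⟨(p.1.1 : E), h.inter _ p.1.1.2 ?_⟩
        invFun := fun c => ⟨(⟨c, h.center_le₁ c.2⟩, ⟨(c : E)⁻¹, inv_mem (h.center_le₂ c.2)⟩),
          mul_inv_cancel (c : E)⟩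
        left_inv := fun p => ?_
        right_inv := fun c => rfl }
    · have hp : (p.1.1 : E) * (p.1.2 : E) = 1 := p.2
      rw [eq_inv_of_mul_eq_one_left hp]
      exact inv_mem p.1.2.2
    · have hp : (p.1.1 : E) * (p.1.2 : E) = 1 := p.2
      exact Subtype.ext (Prod.ext rfl (Subtype.ext (eq_inv_of_mul_eq_one_right hp).symm))
  rw [← Nat.card_prod, ← Subgroup.card_mul_index μ.ker, hker, Subgroup.index_ker,
    MonoidHom.range_eq_top.2 hsurj, Subgroup.card_top]

variable [hE : Fact (ExtraLike 2 E)] [Finite E] {z : E} (hz : z ∈ center E) (hz1 : z ≠ 1)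
include hz hz1

/-- The product of two characters of the factors. -/
theorem exists_product {E₁ E₂ : Subgroup E} (h : Halves E₁ E₂) {T : Type v} [Group T] [Finite T]
    (g : T →* MulAut E) (g₁ : T →* MulAut E₁) (g₂ : T →* MulAut E₂)
    (h₁ : ∀ t a, ((g₁ t a : E₁) : E) = g t a) (h₂ : ∀ t a, ((g₂ t a : E₂) : E) = g t a)
    {χ₁ : E₁ ⋊[g₁] T → ℂ} (hχ₁ : IsCharacter _ χ₁) {χ₂ : E₂ ⋊[g₂] T → ℂ} (hχ₂ : IsCharacter _ χ₂)
    (hz₁ : χ₁ (SemidirectProduct.inl ⟨z, h.center_le₁ hz⟩) = -χ₁ 1)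
    (hz₂ : χ₂ (SemidirectProduct.inl ⟨z, h.center_le₂ hz⟩) = -χ₂ 1) :
    ∃ χ, IsCharacter (E ⋊[g] T) χ ∧ ∀ (a : E₁) (b : E₂) (t : T),
      χ ⟨(a : E) * b, t⟩ = χ₁ ⟨a, t⟩ * χ₂ ⟨b, t⟩ := by
  have hfin₁ : Finite (E₁ ⋊[g₁] T) := Finite.of_equiv _ SemidirectProduct.equivProd.symm
  have hfin₂ : Finite (E₂ ⋊[g₂] T) := Finite.of_equiv _ SemidirectProduct.equivProd.symm
  let P : Subgroup ((E₁ ⋊[g₁] T) × (E₂ ⋊[g₂] T)) :=
    { carrier := {p | p.1.right = p.2.right}
      one_mem' := rfl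
      mul_mem' := fun {a b} ha hb => by
        show (a.1 * b.1).right = (a.2 * b.2).right
        rw [SemidirectProduct.mul_right, SemidirectProduct.mul_right]
        exact congrArg₂ (· * ·) ha hb
      inv_mem' := fun {a} ha => by
        show (a.1⁻¹).right = (a.2⁻¹).right
        rw [SemidirectProduct.inv_right, SemidirectProduct.inv_right]
        exact congrArg (·⁻¹) ha }
  let π : P →* E ⋊[g] T :=
    MonoidHom.mk' (fun p => ⟨(p.1.1.left : E) * p.1.2.left, p.1.1.right⟩) fun p q => by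
      refine SemidirectProduct.ext ?_ ?_
      · show ((p.1.1 * q.1.1).left : E) * ((p.1.2 * q.1.2).left : E) =
          (p.1.1.left : E) * p.1.2.left * g p.1.1.right ((q.1.1.left : E) * q.1.2.left)
        rw [SemidirectProduct.mul_left, SemidirectProduct.mul_left, coe_mul, coe_mul, h₁, h₂,
          ← (show p.1.1.right = p.1.2.right from p.2), map_mul]
        have hc : Commute (p.1.2.left : E) (g p.1.1.right (q.1.1.left : E)) :=
          (h.comm _ (h₁ p.1.1.right q.1.1.left ▸ (g₁ p.1.1.right q.1.1.left).2) _ p.1.2.left.2).symm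
        simp only [mul_assoc]
        rw [← mul_assoc (g p.1.1.right (q.1.1.left : E)), ← hc.eq, mul_assoc]
      · rfl
  have hπ : Function.Surjective π := fun x => by
    obtain ⟨a, ha, b, hb, hab⟩ := h.surj x.left
    exact ⟨⟨(⟨⟨a, ha⟩, x.right⟩, ⟨⟨b, hb⟩, x.right⟩), rfl⟩, SemidirectProduct.ext hab rfl⟩
  let p₁ : P →* E₁ ⋊[g₁] T := (MonoidHom.fst _ _).comp P.subtype
  let p₂ : P →* E₂ ⋊[g₂] T := (MonoidHom.snd _ _).comp P.subtype
  obtain ⟨χ, hχ, hχv⟩ := exists_descend π hπ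
    (Chars.isCharacter_mul (Chars.isCharacter_comp p₁ hχ₁) (Chars.isCharacter_comp p₂ hχ₂)) fun k hk => by
      obtain ⟨⟨⟨a, t⟩, ⟨b, t'⟩⟩, htt⟩ := k
      have htt' : t = t' := htt
      subst htt'
      have hk' : ((⟨(a : E) * b, t⟩ : E ⋊[g] T)) = 1 := hk
      have hab : (a : E) * b = 1 := congrArg SemidirectProduct.left hk'
      have ht : t = 1 := congrArg SemidirectProduct.right hk'
      subst ht
      have hb : (b : E) = (a : E)⁻¹ := eq_inv_of_mul_eq_one_right hab
      have hac : (a : E) ∈ center E :=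
        h.inter _ a.2 (by rw [eq_inv_of_mul_eq_one_left hab]; exact inv_mem b.2)
      simp only [p₁, p₂, Pi.mul_apply, Function.comp_apply, MonoidHom.comp_apply, Subgroup.coe_subtype,
        MonoidHom.coe_fst, MonoidHom.coe_snd, OneMemClass.coe_one, Prod.fst_one, Prod.snd_one]
      rcases center_cases hz hz1 hac with he | he
      · rw [show a = 1 from Subtype.ext he, show b = 1 from Subtype.ext (by rw [hb, he, inv_one]; rfl)]
        rfl
      · rw [show a = ⟨z, h.center_le₁ hz⟩ from Subtype.ext he,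
          show b = ⟨z, h.center_le₂ hz⟩ from Subtype.ext (by
            rw [hb, he]; exact inv_eq_of_mul_eq_one_right (z_sq hz))]
        show χ₁ (SemidirectProduct.inl _) * χ₂ (SemidirectProduct.inl _) = _
        rw [hz₁, hz₂, neg_mul_neg]
  exact ⟨χ, hχ, fun a b t => hχv ⟨(⟨a, t⟩, ⟨b, t⟩), rfl⟩⟩

/-- The product of two extensions. -/
theorem ext_split {E₁ E₂ : Subgroup E} (h : Halves E₁ E₂) {T : Type v} [Group T] [Finite T]
    (g : T →* MulAut E) (g₁ : T →* MulAut E₁) (g₂ : T →* MulAut E₂)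
    (h₁ : ∀ t a, ((g₁ t a : E₁) : E) = g t a) (h₂ : ∀ t a, ((g₂ t a : E₂) : E) = g t a)
    (e₁ : Ext (⟨z, h.center_le₁ hz⟩ : E₁) g₁) (e₂ : Ext (⟨z, h.center_le₂ hz⟩ : E₂) g₂) :
    Ext z g := by
  obtain ⟨d₁, ρ₁, g1⟩ := e₁
  obtain ⟨d₂, ρ₂, g2⟩ := e₂
  have hd₁ : ρ₁.character (SemidirectProduct.inl ⟨z, h.center_le₁ hz⟩) = -ρ₁.character 1 := by
    rw [Representation.char_one]; exact g1.char_z
  have hd₂ : ρ₂.character (SemidirectProduct.inl ⟨z, h.center_le₂ hz⟩) = -ρ₂.character 1 := by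
    rw [Representation.char_one]; exact g2.char_z
  obtain ⟨χ, hχ, hv⟩ := exists_product hz hz1 h g g₁ g₂ h₁ h₂ ⟨d₁, ρ₁, rfl⟩ ⟨d₂, ρ₂, rfl⟩ hd₁ hd₂
  have hone : χ 1 = (d₁ : ℂ) * d₂ := by
    rw [show (1 : E ⋊[g] T) = ⟨((1 : E₁) : E) * ((1 : E₂) : E), 1⟩ from
      SemidirectProduct.ext (by simp) rfl, hv]
    show ρ₁.character 1 * ρ₂.character 1 = _
    rw [Representation.char_one, Representation.char_one, Module.finrank_fin_fun, Module.finrank_fin_fun]
  refine ext_of_character hz hz1 g hχ ?_ ?_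
  · rw [hone, show (SemidirectProduct.inl z : E ⋊[g] T) =
      ⟨(((⟨z, h.center_le₁ hz⟩ : E₁)) : E) * ((1 : E₂) : E), 1⟩ from
        SemidirectProduct.ext (by simp) rfl, hv]
    show ρ₁.character (SemidirectProduct.inl _) * ρ₂.character 1 = _
    rw [hd₁, Representation.char_one, Representation.char_one, Module.finrank_fin_fun,
      Module.finrank_fin_fun, neg_mul]
  · rw [hone]
    have e1 := g1.degree
    have e2 := g2.degree
    rw [Module.finrank_fin_fun] at e1 e2
    have h3 := h.card_mul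
    rw [← e1, ← e2, show 2 * d₁ ^ 2 * (2 * d₂ ^ 2) = 2 * (2 * (d₁ * d₂) ^ 2) by ring] at h3
    have h4 := Nat.eq_of_mul_eq_mul_left two_pos h3
    rw [← h4]
    push_cast
    ring

/-- Two factors interchanged by an element outside a subgroup of index two. -/
theorem ext_swap {S : Type v} [Group S] [Finite S] (f : S →* MulAut E) (S₁ : Subgroup S)
    (hidx : S₁.index = 2) {E₁ E₂ : Subgroup E} (h : Halves E₁ E₂)
    (hstab : ∀ x ∈ S₁, f x ∈ stabSub E₁) (s : S) (hs : s ∉ S₁) (hmap : ∀ a, f s a ∈ E₂ ↔ a ∈ E₁)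
    (e₁ : Ext (⟨z, h.center_le₁ hz⟩ : E₁)
      ((resAut E₁).comp ((f.comp S₁.subtype).codRestrict (stabSub E₁) fun x => hstab x x.2))) :
    Ext z f := by
  classical
  have hn : S₁.Normal := Subgroup.normal_of_index_eq_two hidx
  set g₁ : S₁ →* MulAut E₁ :=
    (resAut E₁).comp ((f.comp S₁.subtype).codRestrict (stabSub E₁) fun x => hstab x x.2)
  have hstab₂ : ∀ x ∈ S₁, f x ∈ stabSub E₂ := by
    intro x hx a
    have hx' : s⁻¹ * x * s ∈ S₁ := by
      simpa using hn.conj_mem x hx s⁻¹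
    obtain ⟨a, rfl⟩ := (f s).surjective a
    rw [show f x (f s a) = f s (f (s⁻¹ * x * s) a) by
      rw [← MulAut.mul_apply, ← MulAut.mul_apply, ← map_mul, ← map_mul]; congr 2; group,
      hmap, hmap]
    exact hstab _ hx' a
  let g₂ : S₁ →* MulAut E₂ :=
    (resAut E₂).comp ((f.comp S₁.subtype).codRestrict (stabSub E₂) fun x => hstab₂ x x.2)
  have hmem₁ : ∀ b : E₂, (f s)⁻¹ (b : E) ∈ E₁ := fun b =>
    (hmap _).1 (by rw [MulAut.apply_inv_self]; exact b.2)
  let cs : MulAut S₁ := MulAut.conjNormal s⁻¹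
  let τ : E₂ ⋊[g₂] S₁ →* E₁ ⋊[g₁] S₁ :=
    MonoidHom.mk' (fun p => ⟨⟨(f s)⁻¹ (p.left : E), hmem₁ p.left⟩, cs p.right⟩) fun p q => by
      refine SemidirectProduct.ext (Subtype.ext ?_) (map_mul cs _ _)
      show (f s)⁻¹ ((p.left : E) * f p.right (q.left : E)) =
        (f s)⁻¹ (p.left : E) * f ((cs p.right : S₁) : S) ((f s)⁻¹ (q.left : E))
      rw [map_mul]
      congr 1
      rw [← map_inv, ← MulAut.mul_apply, ← MulAut.mul_apply, ← map_mul, ← map_mul]
      congr 2
      simp [cs, MulAut.conjNormal_apply, mul_assoc]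
  obtain ⟨d₁, ρ₁, g1⟩ := e₁
  have hzs : (f s)⁻¹ z = z := aut_center _ hz
  have hd₁ : ρ₁.character (SemidirectProduct.inl ⟨z, h.center_le₁ hz⟩) = -ρ₁.character 1 := by
    rw [Representation.char_one]; exact g1.char_z
  have hτz : τ (SemidirectProduct.inl ⟨z, h.center_le₂ hz⟩) =
      SemidirectProduct.inl ⟨z, h.center_le₁ hz⟩ :=
    SemidirectProduct.ext (Subtype.ext hzs) (map_one cs)
  obtain ⟨χ, hχ, hv⟩ := exists_product hz hz1 h (f.comp S₁.subtype) g₁ g₂ (fun _ _ => rfl)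
    (fun _ _ => rfl) (χ₁ := ρ₁.character) ⟨d₁, ρ₁, rfl⟩ (Chars.isCharacter_comp τ ⟨d₁, ρ₁, rfl⟩) hd₁
    (by show ρ₁.character (τ _) = -ρ₁.character (τ 1); rw [hτz, map_one, hd₁])
  let φN : ↥(S₁.comap (SemidirectProduct.rightHom (φ := f))) →* E ⋊[f.comp S₁.subtype] S₁ :=
    MonoidHom.mk' (fun n => ⟨n.1.left, ⟨n.1.right, n.2⟩⟩) fun a b => SemidirectProduct.ext rfl rfl
  obtain ⟨d, R, hR⟩ := Chars.isCharacter_comp φN hχ
  have hR' : ∀ n, R.character n = χ (φN n) := fun n => congrFun hR n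
  have hd : d = d₁ * d₁ := by
    have h1 := congrFun hR 1
    rw [Representation.char_one, Module.finrank_fin_fun] at h1
    have h2 : φN 1 = ⟨((1 : E₁) : E) * ((1 : E₂) : E), 1⟩ := SemidirectProduct.ext (by simp [φN]) rfl
    have h3 : ρ₁.character (1 : E₁ ⋊[g₁] S₁) * ρ₁.character (τ 1) = (d₁ : ℂ) * d₁ := by
      rw [map_one, Representation.char_one, Module.finrank_fin_fun]
    rw [h2, hv] at h1
    exact_mod_cast h1.trans h3
  refine ext_of_cyclic hz hz1 f S₁ (hcyc := ?_) R ?_ ?_ ?_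
  · have : Fact (Nat.Prime 2) := ⟨Nat.prime_two⟩
    exact isCyclic_of_prime_card (p := 2) (by rw [← Subgroup.index_eq_card, hidx])
  · have hfin : Finite (E ⋊[f] S) := Finite.of_equiv _ SemidirectProduct.equivProd.symm
    refine eq_neg_one_of_trace hz1 ?_ ?_
    · rw [← map_mul]
      convert map_one R using 2
      exact Subtype.ext (SemidirectProduct.ext (by simp [z_sq hz]) (by simp))
    · rw [show LinearMap.trace ℂ (Fin d → ℂ) (R ⟨SemidirectProduct.inl z, by simp⟩) =
        R.character ⟨SemidirectProduct.inl z, by simp⟩ from rfl, hR',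
        show φN ⟨SemidirectProduct.inl z, by simp⟩ =
          ⟨(((⟨z, h.center_le₁ hz⟩ : E₁)) : E) * ((1 : E₂) : E), 1⟩ from
            SemidirectProduct.ext (by simp [φN]) rfl, hv, Module.finrank_fin_fun, hd]
      show ρ₁.character (SemidirectProduct.inl _) * ρ₁.character (τ 1) = _
      rw [hd₁, map_one, Representation.char_one, Module.finrank_fin_fun]
      push_cast
      ring
  · have h3 := h.card_mul
    have hcardE : Nat.card E₂ = Nat.card E₁ := by
      refine (Nat.card_congr (Equiv.ofBijective (fun a : E₁ => (⟨f s a, (hmap _).2 a.2⟩ : E₂))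
        ⟨fun a b hab => Subtype.ext ((f s).injective (congrArg Subtype.val hab)),
          fun b => ⟨⟨(f s)⁻¹ b, hmem₁ b⟩, Subtype.ext (MulAut.apply_inv_self E _ _)⟩⟩)).symm
    have e1 := g1.degree
    rw [Module.finrank_fin_fun] at e1
    rw [hcardE, ← e1, show 2 * d₁ ^ 2 * (2 * d₁ ^ 2) = 2 * (2 * (d₁ * d₁) ^ 2) by ring] at h3
    rw [hd]
    exact Nat.eq_of_mul_eq_mul_left two_pos h3
  · -- invariance
    have hconj : ∀ n, R.character (MulAut.conjNormal (SemidirectProduct.inr s : E ⋊[f] S) n) =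
        R.character n := by
      intro n
      obtain ⟨a, ha, b, hb, hab⟩ := h.surj n.1.left
      have hs2 : s * s ∈ S₁ := by
        rw [Subgroup.mul_mem_iff_of_index_two hidx]
      have ha' : f s a ∈ E₂ := (hmap a).2 ha
      have hb' : f s b ∈ E₁ := by
        have h1 := (hstab _ hs2 _).2 (hmem₁ ⟨b, hb⟩)
        rwa [map_mul, MulAut.mul_apply, MulAut.apply_inv_self] at h1
      have hxs : s * n.1.right * s⁻¹ ∈ S₁ := hn.conj_mem _ n.2 s
      rw [hR', hR']
      have e1 : φN n = ⟨((⟨a, ha⟩ : E₁) : E) * ((⟨b, hb⟩ : E₂) : E), ⟨n.1.right, n.2⟩⟩ :=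
        SemidirectProduct.ext hab.symm rfl
      have e2 : φN (MulAut.conjNormal (SemidirectProduct.inr s : E ⋊[f] S) n) =
          ⟨((⟨f s b, hb'⟩ : E₁) : E) * ((⟨f s a, ha'⟩ : E₂) : E), ⟨s * n.1.right * s⁻¹, hxs⟩⟩ := by
        refine SemidirectProduct.ext ?_ (Subtype.ext ?_)
        · show ((SemidirectProduct.inr s : E ⋊[f] S) * n.1 * (SemidirectProduct.inr s)⁻¹).left =
            f s b * f s a
          rw [← map_mul, ← (h.comm a ha b hb).eq, hab]
          simp
        · show ((SemidirectProduct.inr s : E ⋊[f] S) * n.1 * (SemidirectProduct.inr s)⁻¹).right = _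
          simp
      rw [e1, e2, hv, hv, mul_comm]
      refine congrArg₂ (· * ·) ?_ ?_
      · show ρ₁.character (τ _) = _
        congr 1
        refine SemidirectProduct.ext (Subtype.ext (MulAut.inv_apply_self E _ _)) (Subtype.ext ?_)
        simp [τ, cs, MulAut.conjNormal_apply, mul_assoc]
      · show ρ₁.character _ = ρ₁.character (τ _)
        have key : (⟨⟨f s b, hb'⟩, ⟨s * n.1.right * s⁻¹, hxs⟩⟩ : E₁ ⋊[g₁] S₁) =
            SemidirectProduct.inr ⟨s * s, hs2⟩ * τ ⟨⟨b, hb⟩, ⟨n.1.right, n.2⟩⟩ *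
              (SemidirectProduct.inr ⟨s * s, hs2⟩)⁻¹ := by
          refine SemidirectProduct.ext (Subtype.ext ?_) (Subtype.ext ?_)
          · simp [τ, g₁, resAut_coe]
            show f s b = f (s * s) ((f s)⁻¹ b)
            rw [map_mul, MulAut.mul_apply, MulAut.apply_inv_self]
          · simp [τ, cs, MulAut.conjNormal_apply, mul_assoc]
        rw [key, Representation.char_conj]
    intro g n
    by_cases hg : g.right ∈ S₁
    · rw [show MulAut.conjNormal g n = (⟨g, hg⟩ : ↥(S₁.comap (SemidirectProduct.rightHom (φ := f)))) * n *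
          (⟨g, hg⟩ : ↥(S₁.comap (SemidirectProduct.rightHom (φ := f))))⁻¹ from
        Subtype.ext (by simp [MulAut.conjNormal_apply]), Representation.char_conj]
    · have hg' : g * (SemidirectProduct.inr s : E ⋊[f] S)⁻¹ ∈
          S₁.comap (SemidirectProduct.rightHom (φ := f)) := by
        show (g * (SemidirectProduct.inr s : E ⋊[f] S)⁻¹).right ∈ S₁
        rw [SemidirectProduct.mul_right, SemidirectProduct.inv_right, SemidirectProduct.right_inr,
          Subgroup.mul_mem_iff_of_index_two hidx, inv_mem_iff]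
        exact iff_of_false hg hs
      rw [show MulAut.conjNormal g n = (⟨_, hg'⟩ : ↥(S₁.comap (SemidirectProduct.rightHom (φ := f)))) *
          MulAut.conjNormal (SemidirectProduct.inr s : E ⋊[f] S) n *
          (⟨_, hg'⟩ : ↥(S₁.comap (SemidirectProduct.rightHom (φ := f))))⁻¹ from
        Subtype.ext (by simp [MulAut.conjNormal_apply, mul_assoc]), Representation.char_conj, hconj]

end Cfsg.Agent.Lib.ExtendExtraTwo
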