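import Cfsg.Agent.Lib.ExtendExtraTwo.Algebra
import Cfsg.Agent.Lib.ExtendExtraTwo.Product

/-!
A dual pair of idempotents: monomial characters from the two totally singular halves, and their equality.
-/

set_option autoImplicit false

namespace Cfsg.Agent.Lib.ExtendExtraTwo

open Subgroup Cfsg.Agent.Lib.ExtraStruct Cfsg.Agent.Lib.ExtraTwoCoord Cfsg
open scoped commutatorElement ComplexConjugate

universe u v

section Generic

variable {G : Type u} [Group G] [Fintype G]

/-- Two monomial characters with complementary supports agreeing on the intersection. -/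
theorem classInner_ind_ind {T T' : Subgroup G} (lam : T →* ℂˣ) (lam' : T' →* ℂˣ)
    (hG : ∀ g : G, ∃ a ∈ T, ∃ b ∈ T', a * b = g)
    (hI : ∀ (g : G) (h : g ∈ T) (h' : g ∈ T'), lam ⟨g, h⟩ = lam' ⟨g, h'⟩) :
    classInner (indFun T fun t => (lam t : ℂ)) (indFun T' fun t => (lam' t : ℂ)) = 1 := by
  classical
  let ψ : G → ℂ := indFun T' fun t => (lam' t : ℂ)
  show classInner (indFun T fun t => (lam t : ℂ)) ψ = 1
  rw [Chars.classInner_indFun_left T _ ψ (Chars.isClassFunction_indFun T' _)]
  let ext' : G → ℂ := extendByZero T' fun t => (lam' t : ℂ)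
  let F : G → ℂ := fun g => ∑ t : T, (lam t : ℂ) * conj (ext' (g⁻¹ * t * g))
  let μ : T × T' → G := fun p => (p.1 : G) * p.2
  let I := T ⊓ T'
  -- the fibres
  have hfib : ∀ g : G, (Finset.univ.filter fun p => μ p = g).card = Nat.card I := by
    intro g
    obtain ⟨a, ha, b, hb, rfl⟩ := hG g
    rw [Nat.card_eq_fintype_card, ← Finset.card_univ]
    refine (Finset.card_bij (fun (i : I) _ => ((⟨a * i, mul_mem ha (Subgroup.mem_inf.1 i.2).1⟩ : T),
      (⟨(i : G)⁻¹ * b, mul_mem (inv_mem (Subgroup.mem_inf.1 i.2).2) hb⟩ : T'))) (fun i _ => ?_) (fun i _ j _ hij => ?_)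
      fun p hp => ?_).symm
    · simp [μ, mul_assoc]
    · exact Subtype.ext (mul_left_cancel (congrArg (fun p : T × T' => (p.1 : G)) hij))
    · have hp' : (p.1 : G) * p.2 = a * b := (Finset.mem_filter.1 hp).2
      have hi : a⁻¹ * (p.1 : G) = b * (p.2 : G)⁻¹ := by
        rw [inv_mul_eq_iff_eq_mul, ← mul_assoc, ← hp', mul_inv_cancel_right]
      refine ⟨⟨a⁻¹ * p.1, Subgroup.mem_inf.2 ⟨mul_mem (inv_mem ha) p.1.2,
        hi ▸ mul_mem hb (inv_mem p.2.2)⟩⟩, Finset.mem_univ _, ?_⟩
      refine Prod.ext (Subtype.ext ?_) (Subtype.ext ?_)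
      · simp
      · show (a⁻¹ * (p.1 : G))⁻¹ * b = p.2
        rw [hi]; group
  have hsumG : ∑ p : T × T', F (μ p) = (Nat.card I : ℂ) * ∑ g, F g := by
    rw [← Finset.sum_fiberwise Finset.univ μ, Finset.mul_sum]
    refine Finset.sum_congr rfl fun g _ => ?_
    rw [Finset.sum_congr rfl fun p hp => congrArg F (Finset.mem_filter.1 hp).2, Finset.sum_const,
      hfib, nsmul_eq_mul]
  have hF : ∀ p : T × T', F (μ p) = (Nat.card I : ℂ) := by
    rintro ⟨a, b⟩
    have h1 : ∀ t : T, ext' ((μ (a, b))⁻¹ * t * μ (a, b)) = ext' ((a : G)⁻¹ * t * a) := by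
      intro t
      simp only [μ, mul_inv_rev]
      rw [show (b : G)⁻¹ * (a : G)⁻¹ * t * ((a : G) * b) = (b : G)⁻¹ * ((a : G)⁻¹ * t * a) * b by group]
      by_cases hmem : (a : G)⁻¹ * t * a ∈ T'
      · have hmem' : (b : G)⁻¹ * ((a : G)⁻¹ * t * a) * b ∈ T' :=
          mul_mem (mul_mem (inv_mem b.2) hmem) b.2
        simp only [ext']
        rw [Chars.extendByZero_of_mem _ hmem', Chars.extendByZero_of_mem _ hmem]
        rw [show (⟨_, hmem'⟩ : T') = b⁻¹ * ⟨_, hmem⟩ * b from Subtype.ext rfl, map_mul, map_mul, map_inv,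
          inv_mul_cancel_comm]
      · have hmem' : (b : G)⁻¹ * ((a : G)⁻¹ * t * a) * b ∉ T' := fun h => hmem (by
          simpa [mul_assoc] using mul_mem (mul_mem b.2 h) (inv_mem b.2))
        simp only [ext']
        rw [Chars.extendByZero_of_not_mem _ hmem', Chars.extendByZero_of_not_mem _ hmem]
    calc F (μ (a, b)) = ∑ t : T, (lam t : ℂ) * conj (ext' ((a : G)⁻¹ * t * a)) :=
          Finset.sum_congr rfl fun t _ => by rw [h1]
      _ = ∑ t : T, (lam t : ℂ) * conj (ext' t) := by
          refine Fintype.sum_equiv (MulAut.conj a⁻¹).toEquiv _ _ fun t => ?_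
          have : lam ((MulAut.conj a⁻¹).toEquiv t) = lam t := by simp
          rw [this]
          simp
      _ = ∑ t : T, if (t : G) ∈ T' then (1 : ℂ) else 0 := by
          refine Finset.sum_congr rfl fun t _ => ?_
          simp only [ext']
          split_ifs with h
          · rw [Chars.extendByZero_of_mem _ h, ← hI t t.2 h, Complex.mul_conj', Chars.norm_hom_apply]
            norm_num
          · rw [Chars.extendByZero_of_not_mem _ h, map_zero, mul_zero]
      _ = (Nat.card I : ℂ) := by
          rw [Finset.sum_boole, Nat.card_eq_fintype_card, ← Finset.card_univ]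
          congr 1
          refine Finset.card_bij (fun t ht => (⟨t, t.2, (Finset.mem_filter.1 ht).2⟩ : I))
            (fun _ _ => Finset.mem_univ _) (fun a _ b _ hab => Subtype.ext ?_)
            fun i _ => ⟨⟨i, (Subgroup.mem_inf.1 i.2).1⟩, by simpa using (Subgroup.mem_inf.1 i.2).2, rfl⟩
          exact congrArg (fun i : I => (i : G)) hab
  rw [Finset.sum_congr rfl fun p _ => hF p, Finset.sum_const, Finset.card_univ, Fintype.card_prod,
    nsmul_eq_mul] at hsumG
  have hI0 : (Nat.card I : ℂ) ≠ 0 := Nat.cast_ne_zero.2 Nat.card_pos.ne'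
  have htot : ∑ g, F g = (Nat.card T : ℂ) * Nat.card T' := by
    rw [mul_comm (Nat.card I : ℂ) (∑ g, F g)] at hsumG
    rw [← mul_right_cancel₀ hI0 hsumG, Nat.card_eq_fintype_card, Nat.card_eq_fintype_card]
    push_cast
    ring
  have hψ : ∀ t : T, conj (ψ t) =
      (Nat.card T' : ℂ)⁻¹ * ∑ g : G, conj (ext' (g⁻¹ * t * g)) := by
    intro t
    show conj (indFun T' _ _) = _
    rw [indFun, map_mul, map_inv₀, Complex.conj_natCast, map_sum]
  simp only [classInner, hψ, Finset.mul_sum]
  rw [Finset.sum_comm]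
  have hT0 : (Nat.card T : ℂ) ≠ 0 := Nat.cast_ne_zero.2 Nat.card_pos.ne'
  have hT'0 : (Nat.card T' : ℂ) ≠ 0 := Nat.cast_ne_zero.2 Nat.card_pos.ne'
  calc _ = (Nat.card T : ℂ)⁻¹ * (Nat.card T' : ℂ)⁻¹ * ∑ g, F g := by
        simp only [F, Finset.mul_sum]
        exact Finset.sum_congr rfl fun g _ => Finset.sum_congr rfl fun t _ => by ring
    _ = 1 := by rw [htot]; field_simp

/-- Induction commutes with automorphisms. -/
theorem indFun_aut (α : MulAut G) {T T' : Subgroup G} (hT : ∀ g, g ∈ T' ↔ α g ∈ T) (θ : T → ℂ)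
    (θ' : T' → ℂ) (hθ : ∀ g (h' : g ∈ T'), θ' ⟨g, h'⟩ = θ ⟨α g, (hT g).1 h'⟩) (g : G) :
    indFun T θ (α g) = indFun T' θ' g := by
  have hcard : Nat.card T = Nat.card T' :=
    (Nat.card_congr (Equiv.subtypeEquiv α.toEquiv hT)).symm
  simp only [indFun, hcard]
  congr 1
  symm
  refine Fintype.sum_equiv α.toEquiv _ _ fun x => ?_
  simp only [MulEquiv.toEquiv_eq_coe, MulEquiv.coe_toEquiv, ← map_inv, ← map_mul]
  by_cases h : x⁻¹ * g * x ∈ T'
  · rw [Chars.extendByZero_of_mem _ h, Chars.extendByZero_of_mem _ ((hT _).1 h), hθ]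
  · rw [Chars.extendByZero_of_not_mem _ h, Chars.extendByZero_of_not_mem _ fun h' => h ((hT _).2 h')]

end Generic

variable {E : Type u} [Group E] [hE : Fact (ExtraLike 2 E)] [Finite E] {z : E} (hz : z ∈ center E)
  (hz1 : z ≠ 1) {K : Subgroup (MulAut E)}

/-- The preimage of the fixed points of an endomorphism of `M E`. -/
def eSub (e : AddMonoid.End (M E)) : Subgroup E where
  carrier := {x | e (mk x) = mk x}
  one_mem' := map_zero e
  mul_mem' := fun {a b} ha hb => by
    simp only [Set.mem_setOf_eq, mk_mul] at *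
    exact (map_add e (mk a) (mk b)).trans (congrArg₂ (· + ·) ha hb)
  inv_mem' := fun {a} ha => by
    simp only [Set.mem_setOf_eq] at *
    exact (congrArg e (show mk a⁻¹ = -mk a from rfl)).trans ((map_neg e (mk a)).trans (congrArg Neg.neg ha))

theorem center_le_eSub (e : AddMonoid.End (M E)) : center E ≤ eSub e := fun c hc => by
  show e (mk c) = mk c
  rw [mk_eq_zero.2 hc]
  exact map_zero e

theorem mem_eSub_act {e e' : AddMonoid.End (M E)} {α : MulAut E} (h : cj α e = e') (x : E) :
    α x ∈ eSub e' ↔ x ∈ eSub e := by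
  show e' (mk (α x)) = mk (α x) ↔ e (mk x) = mk x
  rw [← act_mk, ← h]
  show act α (e (act α⁻¹ (act α (mk x)))) = act α (mk x) ↔ _
  rw [act_inv_apply]
  exact ⟨fun hh => by simpa [act_inv_apply] using congrArg (act α⁻¹) hh, fun hh => congrArg (act α) hh⟩

omit hE [Finite E] in
theorem cj_of_commute [Fact (ExtraLike 2 E)] [Finite E] {α : MulAut E} {e : AddMonoid.End (M E)}
    (h : act α * e = e * act α) : cj α e = e := by
  rw [cj, h, mul_assoc, act_mul_inv, mul_one]

/-- One half of a dual pair. -/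
structure Lagr (K : Subgroup (MulAut E)) (e e' : AddMonoid.End (M E)) : Prop where
  mem : e ∈ coreAlg K
  idem : e * e = e
  orth : e * e' = 0
  orth' : e' * e = 0
  sum : e + e' = 1
  adj : IsAdj e e'
  idem' : e' * e' = e'

theorem Lagr.swap {e e' : AddMonoid.End (M E)} (h : Lagr K e e') (h' : e' ∈ coreAlg K) : Lagr K e' e :=
  ⟨h', h.idem', h.orth', h.orth, by rw [add_comm]; exact h.sum, h.adj.symm, h.idem⟩

variable {e e' : AddMonoid.End (M E)}

theorem Lagr.form_eq_zero (h : Lagr K e e') {a b : M E} (ha : e a = a) (hb : e b = b) : form a b = 0 := by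
  rw [← ha, h.adj, ← hb,
    show e' (e b) = 0 from congrArg (fun a : AddMonoid.End (M E) => a b) h.orth', form_zero_right]

theorem Lagr.qf_eq_zero (hK : FPF K) (h : Lagr K e e') {a : M E} (ha : e a = a) : qf a = 0 := by
  let ℓ : M E →+ ZMod 2 := AddMonoidHom.mk' (fun m => qf (e m)) fun m n => by
    have hee : ∀ m, e (e m) = e m := fun m => congrArg (fun a : AddMonoid.End (M E) => a m) h.idem
    show qf (e (m + n)) = qf (e m) + qf (e n)
    rw [show e (m + n) = e m + e n from map_add e m n, qf_add, h.form_eq_zero (hee m) (hee n), add_zero]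
  have h0 := functional_eq_zero hK ℓ fun k hk m => by
    show qf (e (act k m)) = qf (e m)
    rw [apply_act_of_mem h.mem hk, qf_act]
  have := congrArg (fun l : M E →+ ZMod 2 => l a) h0
  simpa [ℓ, ha] using this

theorem Lagr.sq_eq_one (hK : FPF K) (h : Lagr K e e') {x : E} (hx : x ∈ eSub e) : x ^ 2 = 1 := by
  have := h.qf_eq_zero hK (show e (ExtendExtraTwo.mk x) = ExtendExtraTwo.mk x from hx)
  rwa [qf_mk, bit_eq_zero] at this

theorem Lagr.commute (h : Lagr K e e') {x y : E} (hx : x ∈ eSub e) (hy : y ∈ eSub e) : x * y = y * x := by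
  have := h.form_eq_zero (show e (ExtendExtraTwo.mk x) = ExtendExtraTwo.mk x from hx) (show e (ExtendExtraTwo.mk y) = ExtendExtraTwo.mk y from hy)
  rwa [form_mk, bit_eq_zero, commutatorElement_eq_one_iff_mul_comm] at this

/-- The abelian group on a half. -/
abbrev Lagr.commGroup (h : Lagr K e e') : CommGroup (eSub e) :=
  { (inferInstance : Group (eSub e)) with mul_comm := fun a b => Subtype.ext (h.commute a.2 b.2) }

theorem Lagr.act_mem (h : Lagr K e e') (k : K) {x : E} (hx : x ∈ eSub e) : (k : MulAut E) x ∈ eSub e :=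
  (mem_eSub_act (cj_of_commute (commute_act_of_mem h.mem k.2)) x).2 hx

/-- The product of the translates under `K`. -/
noncomputable def Lagr.norm [Fintype K] (h : Lagr K e e') : eSub e →* E :=
  letI := h.commGroup
  (eSub e).subtype.comp
    { toFun := fun w => ∏ k : K, (⟨(k : MulAut E) (w : E), h.act_mem k w.2⟩ : eSub e)
      map_one' := Finset.prod_eq_one fun k _ => Subtype.ext (map_one _)
      map_mul' := fun a b => by
        rw [← Finset.prod_mul_distrib]
        exact Finset.prod_congr rfl fun k _ => Subtype.ext (map_mul _ _ _) }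

theorem Lagr.norm_center [Fintype K] (hK : FPF K) (h : Lagr K e e') (w : eSub e) (hw : (w : E) ∈ center E) :
    h.norm w = w := by
  let := h.commGroup
  show ((∏ k : K, (⟨(k : MulAut E) (w : E), h.act_mem k w.2⟩ : eSub e) : eSub e) : E) = w
  rw [Finset.prod_congr rfl fun (k : K) _ => (show (⟨(k : MulAut E) (w : E), h.act_mem k w.2⟩ : eSub e) = w from
    Subtype.ext (aut_center _ hw)), Finset.prod_const, Finset.card_univ, ← Nat.card_eq_fintype_card]
  obtain ⟨j, hj⟩ := hK.odd
  have h2 : w ^ 2 = 1 := Subtype.ext (h.sq_eq_one hK w.2)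
  rw [hj, pow_succ, pow_mul, h2, one_pow, one_mul]

theorem Lagr.norm_mem [Fintype K] (hK : FPF K) (h : Lagr K e e') (w : eSub e) : h.norm w ∈ center E := by
  let := h.commGroup
  refine mk_eq_zero.1 (hK.fixed _ fun g hg => ?_)
  rw [act_mk]
  congr 1
  show g ((∏ k : K, (⟨(k : MulAut E) (w : E), h.act_mem k w.2⟩ : eSub e) : eSub e) : E) = _
  let G : eSub e →* eSub e :=
    MonoidHom.mk' (fun x => ⟨g x, h.act_mem ⟨g, hg⟩ x.2⟩) fun a b => Subtype.ext (map_mul g (a : E) (b : E))
  have h1 : G (∏ k : K, (⟨(k : MulAut E) (w : E), h.act_mem k w.2⟩ : eSub e)) =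
      ∏ k : K, (⟨(k : MulAut E) (w : E), h.act_mem k w.2⟩ : eSub e) := by
    rw [map_prod]
    exact Fintype.prod_equiv (Equiv.mulLeft (⟨g, hg⟩ : K)) _ _ fun k => rfl
  exact congrArg Subtype.val h1

theorem Lagr.norm_map [Fintype K] (hK : FPF K) {e₂ e₂' : AddMonoid.End (M E)} (h : Lagr K e e')
    (h₂ : Lagr K e₂ e₂') (α : MulAut E) (hnorm : ∀ k ∈ K, α * k * α⁻¹ ∈ K) (hmap : cj α e = e₂)
    (w : eSub e) (hw : α (w : E) ∈ eSub e₂) : h₂.norm ⟨α w, hw⟩ = h.norm w := by
  let := h.commGroup
  let := h₂.commGroup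
  let A : eSub e →* eSub e₂ :=
    MonoidHom.mk' (fun x => ⟨α (x : E), (mem_eSub_act hmap x).2 x.2⟩) fun a b =>
      Subtype.ext (map_mul α (a : E) (b : E))
  have hbij : Function.Bijective fun k : K => (⟨α * k * α⁻¹, hnorm k k.2⟩ : K) := by
    refine Finite.injective_iff_bijective.1 fun a b hab => Subtype.ext ?_
    exact mul_left_cancel (mul_right_cancel (congrArg Subtype.val hab))
  have h1 : A (∏ k : K, (⟨(k : MulAut E) (w : E), h.act_mem k w.2⟩ : eSub e)) =
      ∏ k : K, (⟨(k : MulAut E) (α w), h₂.act_mem k hw⟩ : eSub e₂) := by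
    rw [map_prod]
    refine Fintype.prod_equiv (Equiv.ofBijective _ hbij) _ _ fun k => Subtype.ext ?_
    show α ((k : MulAut E) w) = α ((k : MulAut E) (α⁻¹ (α w)))
    rw [MulAut.inv_apply_self]
  have h2 : α (h.norm w) = h₂.norm ⟨α w, hw⟩ := congrArg Subtype.val h1
  rw [← h2, aut_center α (h.norm_mem hK w)]

open scoped Classical in
/-- The sign of a central element. -/
noncomputable def sgn : center E →* ℂˣ where
  toFun c := if (c : E) = 1 then 1 else -1
  map_one' := if_pos rfl
  map_mul' a b := by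
    have := fact_two
    by_cases ha : (a : E) = 1
    · simp [ha]
    by_cases hb : (b : E) = 1
    · simp [hb]
    have : (a : E) * b = 1 := by
      rw [eq_of_mem_center_two hE.out a.2 ha b.2 hb]
      exact center_sq hE.out b.2
    simp [ha, hb, this]

variable {T : Type v} [Group T] (g : T →* MulAut E)

/-- The preimage of a half in the semidirect product. -/
def halfTop (h : Lagr K e e') (hst : ∀ t, cj (g t) e = e) : Subgroup (E ⋊[g] T) where
  carrier := {p | p.left ∈ eSub e}
  one_mem' := by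
    show (1 : E ⋊[g] T).left ∈ eSub e
    rw [SemidirectProduct.one_left]; exact one_mem _
  mul_mem' := fun {a b} ha hb => by
    show (a * b).left ∈ eSub e
    rw [SemidirectProduct.mul_left]
    exact mul_mem ha ((mem_eSub_act (hst _) _).2 hb)
  inv_mem' := fun {a} ha => by
    show (a⁻¹).left ∈ eSub e
    rw [SemidirectProduct.inv_left]
    exact (mem_eSub_act (hst _) _).2 (inv_mem ha)

variable [Fintype K] (hK : FPF K) (hnorm : ∀ t, ∀ k ∈ K, g t * k * (g t)⁻¹ ∈ K)

/-- The linear character of a half. -/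
noncomputable def halfHom (h : Lagr K e e') (hst : ∀ t, cj (g t) e = e) : halfTop g h hst →* ℂˣ :=
  MonoidHom.mk' (fun p => sgn ⟨h.norm ⟨p.1.left, p.2⟩, h.norm_mem hK _⟩) fun p q => by
    rw [← map_mul]
    congr 1
    refine Subtype.ext ?_
    show h.norm ⟨(p.1 * q.1).left, _⟩ = h.norm ⟨p.1.left, p.2⟩ * h.norm ⟨q.1.left, q.2⟩
    have hm : g p.1.right q.1.left ∈ eSub e := (mem_eSub_act (hst _) _).2 q.2
    rw [show h.norm ⟨q.1.left, q.2⟩ = h.norm ⟨g p.1.right q.1.left, hm⟩ from
      (h.norm_map hK h _ (hnorm _) (hst _) ⟨q.1.left, q.2⟩ hm).symm, ← map_mul]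
    rfl

theorem card_M : Nat.card E = 2 * Nat.card (M E) := by
  rw [← hE.out.card_center]
  exact (Subgroup.card_mul_index (center E)).symm.trans (by rw [Subgroup.index_eq_card]; rfl)

theorem card_eSub (e : AddMonoid.End (M E)) : Nat.card (eSub e) = 2 * Nat.card {m : M E // e m = m} := by
  rw [← hE.out.card_center, ← Nat.card_prod]
  refine Nat.card_congr
    { toFun := fun x => (⟨(lift (mk (x : E)))⁻¹ * x, mk_eq_mk.1 (mk_lift _)⟩, ⟨mk (x : E), x.2⟩)
      invFun := fun p => ⟨lift p.2.1 * p.1, mul_mem (show e (mk _) = mk _ by rw [mk_lift]; exact p.2.2)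
        (center_le_eSub e p.1.2)⟩
      left_inv := fun x => Subtype.ext (by simp)
      right_inv := fun p => ?_ }
  have h1 : mk (lift p.2.1 * (p.1 : E)) = p.2.1 := by
    rw [mk_mul, mk_lift, mk_eq_zero.2 p.1.2, add_zero]
  refine Prod.ext (Subtype.ext ?_) (Subtype.ext h1)
  show (lift (mk (lift p.2.1 * (p.1 : E))))⁻¹ * (lift p.2.1 * p.1) = p.1
  rw [h1, inv_mul_cancel_left]

theorem card_fix_le (h : Lagr K e e') :
    Nat.card {m : M E // e m = m} ≤ Nat.card {m : M E // e' m = m} := by
  let A : AddSubgroup (M E) :=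
    { carrier := {m | e' m = m}
      zero_mem' := map_zero e'
      add_mem' := fun {a b} ha hb => (map_add e' a b).trans (congrArg₂ (· + ·) ha hb)
      neg_mem' := fun {a} ha => (map_neg e' a).trans (congrArg Neg.neg ha) }
  let _ : Module (ZMod 2) A :=
    AddCommGroup.zmodModule (n := 2) fun m => by rw [two_nsmul]; exact Subtype.ext (add_self_M _)
  have : FiniteDimensional (ZMod 2) A := Module.Finite.of_finite
  have hdual : Nat.card (A →+ ZMod 2) = Nat.card A := by
    rw [Nat.card_congr (AddMonoidHom.toZModLinearMapEquiv 2 (M := A) (M₁ := ZMod 2)).toEquiv,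
      Module.natCard_eq_pow_finrank (K := ZMod 2), Subspace.dual_finrank_eq,
      ← Module.natCard_eq_pow_finrank (K := ZMod 2)]
  have hfin : Finite (A →+ ZMod 2) := Finite.of_injective _ DFunLike.coe_injective
  refine (Nat.card_le_card_of_injective (fun m : {m : M E // e m = m} =>
    (AddMonoidHom.mk' (fun a : A => form m.1 a.1) fun a b => form_add_right _ _ _ : A →+ ZMod 2))
    fun m n hmn => ?_).trans hdual.le
  refine Subtype.ext (sub_eq_zero.1 (form_nondeg fun b => ?_))
  have hb : e' (e' b) = e' b := congrArg (fun a : AddMonoid.End (M E) => a b) h.idem'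
  have h1 : form m.1 (e' b) = form n.1 (e' b) := DFunLike.congr_fun hmn ⟨e' b, hb⟩
  have hm : e (m.1 - n.1) = m.1 - n.1 := by
    rw [show e (m.1 - n.1) = e m.1 - e n.1 from map_sub e _ _, m.2, n.2]
  rw [← hm, h.adj, sub_eq_add_neg, neg_M, form_add_left, h1]
  exact CharTwo.add_self_eq_zero _

theorem card_fix (h : Lagr K e e') (h' : Lagr K e' e) :
    Nat.card {m : M E // e m = m} ^ 2 = Nat.card (M E) := by
  have heq := le_antisymm (card_fix_le h) (card_fix_le h')
  rw [sq]
  conv_lhs => arg 2; rw [heq]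
  rw [← Nat.card_prod]
  refine (Nat.card_congr
    { toFun := fun m => ((⟨e m, congrArg (fun a : AddMonoid.End (M E) => a m) h.idem⟩ : {m : M E // e m = m}),
        (⟨e' m, congrArg (fun a : AddMonoid.End (M E) => a m) h.idem'⟩ : {m : M E // e' m = m}))
      invFun := fun p => p.1.1 + p.2.1
      left_inv := fun m => congrArg (fun a : AddMonoid.End (M E) => a m) h.sum
      right_inv := fun p => ?_ }).symm
  have h1 : e p.2.1 = 0 := by
    rw [← p.2.2]; exact congrArg (fun a : AddMonoid.End (M E) => a p.2.1) h.orth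
  have h2 : e' p.1.1 = 0 := by
    rw [← p.1.2]; exact congrArg (fun a : AddMonoid.End (M E) => a p.1.1) h.orth'
  refine Prod.ext (Subtype.ext ?_) (Subtype.ext ?_)
  · show e (p.1.1 + p.2.1) = p.1.1
    rw [show e (p.1.1 + p.2.1) = e p.1.1 + e p.2.1 from map_add e _ _, p.1.2, h1, add_zero]
  · show e' (p.1.1 + p.2.1) = p.2.1
    rw [show e' (p.1.1 + p.2.1) = e' p.1.1 + e' p.2.1 from map_add e' _ _, p.2.2, h2, zero_add]

variable [Fintype (E ⋊[g] T)]

include hz hz1 in
/-- The monomial character of a half. -/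
theorem half_char (h : Lagr K e e') (h' : Lagr K e' e) (hst : ∀ t, cj (g t) e = e) :
    let χ := indFun (halfTop g h hst) fun p => (halfHom g hK hnorm h hst p : ℂ)
    IsCharacter (E ⋊[g] T) χ ∧ χ (SemidirectProduct.inl z) = -χ 1 ∧
      2 * χ 1 ^ 2 = (Nat.card E : ℂ) := by
  classical
  intro χ
  have : Finite T := Finite.of_injective (SemidirectProduct.inr : T →* E ⋊[g] T) SemidirectProduct.inr_injective
  refine ⟨Chars.isCharacter_indFun _ (Chars.isCharacter_hom _), ?_, ?_⟩
  · have hmem : (SemidirectProduct.inl z : E ⋊[g] T) ∈ halfTop g h hst := center_le_eSub e hz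
    have hval : (halfHom g hK hnorm h hst ⟨_, hmem⟩ : ℂ) = -1 := by
      show ((sgn ⟨h.norm ⟨z, _⟩, _⟩ : ℂˣ) : ℂ) = -1
      simp [sgn, h.norm_center hK ⟨z, center_le_eSub e hz⟩ hz, hz1]
    have hcen : ∀ x : E ⋊[g] T, x⁻¹ * SemidirectProduct.inl z * x = SemidirectProduct.inl z := by
      intro x
      rw [mul_assoc, inv_mul_eq_iff_eq_mul]
      refine SemidirectProduct.ext ?_ (by simp)
      simp [SemidirectProduct.mul_left, aut_center _ hz, mem_center_iff.1 hz x.left]
    simp only [χ, indFun, hcen, Chars.extendByZero_of_mem _ hmem, hval, Chars.extendByZero_of_mem _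
      (one_mem (halfTop g h hst)), mul_one, inv_mul_cancel, mul_neg]
    rw [show (⟨(1 : E ⋊[g] T), one_mem (halfTop g h hst)⟩ : halfTop g h hst) = 1 from rfl, map_one,
      Units.val_one, Finset.sum_neg_distrib, mul_neg]
  · have h1 : χ 1 = ((halfTop g h hst).index : ℂ) := by
      simp only [χ, Chars.indFun_one_eq]
      rw [map_one, Units.val_one, mul_one]
    rw [h1]
    have hc : Nat.card (halfTop g h hst) = Nat.card (eSub e) * Nat.card T := by
      rw [← Nat.card_prod]
      exact Nat.card_congr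
        { toFun := fun p => (⟨p.1.left, p.2⟩, p.1.right)
          invFun := fun p => ⟨⟨p.1, p.2⟩, p.1.2⟩
          left_inv := fun p => rfl
          right_inv := fun p => rfl }
    have hG : Nat.card (E ⋊[g] T) = Nat.card E * Nat.card T := by
      rw [Nat.card_congr SemidirectProduct.equivProd, Nat.card_prod]
    have h2 := Subgroup.card_mul_index (halfTop g h hst)
    rw [hc, hG, card_eSub, card_M (E := E), ← card_fix h h'] at h2
    set r := Nat.card {m : M E // e m = m}
    have hr : 0 < r := Nat.card_pos_iff.2 ⟨⟨⟨0, map_zero e⟩⟩, inferInstance⟩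
    have hT : 0 < Nat.card T := Nat.card_pos
    have h3 : (halfTop g h hst).index = r := by
      have h4 : 2 * r * Nat.card T * (halfTop g h hst).index = 2 * r * Nat.card T * r := by
        rw [h2]; ring
      exact Nat.eq_of_mul_eq_mul_left (by positivity) h4
    rw [h3, card_M (E := E), ← card_fix h h']
    push_cast
    rfl

include hz hz1 in
/-- The monomial characters of the two halves are equal. -/
theorem half_eq (h : Lagr K e e') (h' : Lagr K e' e) (hst : ∀ t, cj (g t) e = e)
    (hst' : ∀ t, cj (g t) e' = e') :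
    indFun (halfTop g h hst) (fun p => (halfHom g hK hnorm h hst p : ℂ)) =
      indFun (halfTop g h' hst') (fun p => (halfHom g hK hnorm h' hst' p : ℂ)) := by
  classical
  have hirr : ∀ {χ : E ⋊[g] T → ℂ}, IsCharacter (E ⋊[g] T) χ → χ (SemidirectProduct.inl z) = -χ 1 →
      2 * χ 1 ^ 2 = (Nat.card E : ℂ) → IsIrrCharacter (E ⋊[g] T) χ := by
    intro χ hχ hv hd
    obtain ⟨d, ρ, rfl⟩ := hχ
    refine ⟨d, ρ, CharExt.isIrreducible_of_comp SemidirectProduct.inl ρ (Good.irreducible hz hz1 ⟨?_, ?_⟩), rfl⟩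
    · refine eq_neg_one_of_trace hz1 ?_ ?_
      · show ρ (SemidirectProduct.inl z) * ρ (SemidirectProduct.inl z) = 1
        rw [← map_mul, ← map_mul, z_sq hz, map_one, map_one]
      · show ρ.character (SemidirectProduct.inl z) = _
        rw [hv, Representation.char_one]
    · rw [Representation.char_one] at hd
      exact_mod_cast hd
  obtain ⟨hc, hv, hd⟩ := half_char hz hz1 g hK hnorm h h' hst
  obtain ⟨hc', hv', hd'⟩ := half_char hz hz1 g hK hnorm h' h hst'
  by_contra hne
  have h0 := Chars.classInner_irr_of_ne (χ := ⟨_, hirr hc hv hd⟩) (ψ := ⟨_, hirr hc' hv' hd'⟩)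
    fun he => hne (congrArg Subtype.val he)
  refine one_ne_zero ((classInner_ind_ind _ _ (fun p => ?_) (fun p hp hp' => ?_)).symm.trans h0)
  · have hd : mk p.left = e (mk p.left) + e' (mk p.left) :=
      (congrArg (fun a : AddMonoid.End (M E) => a (mk p.left)) h.sum).symm
    set a := lift (e (mk p.left))
    have ha : a ∈ eSub e := by
      show e (mk a) = mk a
      rw [mk_lift]
      exact congrArg (fun a : AddMonoid.End (M E) => a (mk p.left)) h.idem
    have hb : a⁻¹ * p.left ∈ eSub e' := by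
      have hmk : mk (a⁻¹ * p.left) = e' (mk p.left) := by
        rw [mk_mul, show mk a⁻¹ = -mk a from rfl, mk_lift]
        nth_rewrite 2 [hd]
        rw [neg_add_cancel_left]
      show e' (mk _) = mk _
      rw [hmk]
      exact congrArg (fun a : AddMonoid.End (M E) => a (mk p.left)) h.idem'
    exact ⟨SemidirectProduct.inl a, ha, ⟨a⁻¹ * p.left, p.right⟩, hb,
      SemidirectProduct.ext (by simp [SemidirectProduct.mul_left]) (by simp)⟩
  · refine congrArg sgn (Subtype.ext ?_)
    have hcen : p.left ∈ center E := by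
      refine mk_eq_zero.1 ?_
      rw [← (show e (mk p.left) = mk p.left from hp), ← (show e' (mk p.left) = mk p.left from hp')]
      exact congrArg (fun a : AddMonoid.End (M E) => a (mk p.left)) h.orth
    show h.norm ⟨p.left, hp⟩ = h'.norm ⟨p.left, hp'⟩
    rw [h.norm_center hK ⟨p.left, hp⟩ hcen, h'.norm_center hK ⟨p.left, hp'⟩ hcen]

include hz hz1 in
omit [Fintype K] [Fintype (E ⋊[g] T)] in
/-- A dual pair of idempotents gives an extension. -/
theorem ext_pair (hK : FPF K) {S : Type v} [Group S] [Finite S] (f : S →* MulAut E)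
    (hnorm : ∀ (x : S), ∀ k ∈ K, f x * k * (f x)⁻¹ ∈ K) (h : Lagr K e e') (h' : Lagr K e' e)
    (hcase : ∀ x, cj (f x) e = e ∨ cj (f x) e = e') : Ext z f := by
  classical
  let := Fintype.ofFinite K
  have hfin : Finite (E ⋊[f] S) := Finite.of_equiv _ SemidirectProduct.equivProd.symm
  have hother : ∀ x, cj (f x) e = e → cj (f x) e' = e' := fun x hx => by
    have h1 : e' = 1 + e := by rw [← h.sum, add_comm e e', add_assoc, add_self_End, add_zero]
    rw [h1, cj_add, cj_one, hx]
  by_cases hall : ∀ x, cj (f x) e = e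
  · let := Fintype.ofFinite (E ⋊[f] S)
    obtain ⟨hc, hv, hd⟩ := half_char hz hz1 f hK hnorm h h' hall
    exact ext_of_character hz hz1 f hc hv hd
  push Not at hall
  obtain ⟨s, hs⟩ := hall
  let S₁ : Subgroup S :=
    { carrier := {x | cj (f x) e = e}
      one_mem' := by simp [cj_one_left]
      mul_mem' := fun {a b} ha hb => by
        simp only [Set.mem_setOf_eq] at *
        rw [map_mul, ← cj_cj, hb, ha]
      inv_mem' := fun {a} ha => by
        simp only [Set.mem_setOf_eq] at *
        conv_lhs => rw [← ha]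
        rw [cj_cj, ← map_mul, inv_mul_cancel, map_one, cj_one_left] }
  have hse : cj (f s) e = e' := (hcase s).resolve_left hs
  have hse' : cj (f s) e' = e := by
    have h1 : e' = 1 + e := by rw [← h.sum, add_comm e e', add_assoc, add_self_End, add_zero]
    calc cj (f s) e' = 1 + e' := by rw [h1, cj_add, cj_one, hse, h1]
      _ = e := by rw [← h.sum, add_assoc, add_self_End, add_zero]
  have hidx : S₁.index = 2 := by
    rw [Subgroup.index_eq_two_iff]
    refine ⟨s, fun b => ?_⟩
    have hb : (b * s ∈ S₁) ↔ cj (f b) e' = e := by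
      show cj (f (b * s)) e = e ↔ _
      rw [map_mul, ← cj_cj, hse]
    have hb' : cj (f b) e = e' → cj (f b) e' = e := fun hx => by
      have h1 : e' = 1 + e := by rw [← h.sum, add_comm e e', add_assoc, add_self_End, add_zero]
      rw [h1, cj_add, cj_one, hx, h1, ← add_assoc, add_self_End, zero_add]
    rw [xor_def]
    by_cases hbe : cj (f b) e = e
    · exact Or.inr ⟨hbe, fun hbs => hs (by
        have := hb.1 hbs
        rw [hother b hbe] at this
        rw [hse, this])⟩
    · exact Or.inl ⟨hb.2 (hb' ((hcase b).resolve_left hbe)), hbe⟩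
  have hn : S₁.Normal := Subgroup.normal_of_index_eq_two hidx
  have hfin₁ : Finite (E ⋊[f.comp S₁.subtype] S₁) := Finite.of_equiv _ SemidirectProduct.equivProd.symm
  let := Fintype.ofFinite (E ⋊[f.comp S₁.subtype] S₁)
  have hn₁ : ∀ (t : S₁), ∀ k ∈ K, f.comp S₁.subtype t * k * (f.comp S₁.subtype t)⁻¹ ∈ K := fun t => hnorm t
  have hst : ∀ t : S₁, cj (f.comp S₁.subtype t) e = e := fun t => t.2
  have hst' : ∀ t : S₁, cj (f.comp S₁.subtype t) e' = e' := fun t => hother _ t.2
  obtain ⟨hc, hv, hd⟩ := half_char hz hz1 (f.comp S₁.subtype) hK hn₁ h h' hst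
  set χ := indFun (halfTop (f.comp S₁.subtype) h hst)
    (fun p => (halfHom (f.comp S₁.subtype) hK hn₁ h hst p : ℂ)) with hχ
  let φN : ↥(S₁.comap (SemidirectProduct.rightHom (φ := f))) →* E ⋊[f.comp S₁.subtype] S₁ :=
    MonoidHom.mk' (fun n => ⟨n.1.left, ⟨n.1.right, n.2⟩⟩) fun a b => SemidirectProduct.ext rfl rfl
  obtain ⟨d, R, hR⟩ := Chars.isCharacter_comp φN hc
  have hR' : ∀ n, R.character n = χ (φN n) := fun n => congrFun hR n
  have hd1 : χ 1 = (d : ℂ) := by
    rw [← map_one φN, ← hR', Representation.char_one, Module.finrank_fin_fun]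
  refine ext_of_cyclic hz hz1 f S₁ (hcyc := ?_) R ?_ ?_ ?_
  · have : Fact (Nat.Prime 2) := ⟨Nat.prime_two⟩
    exact isCyclic_of_prime_card (p := 2) (by rw [← Subgroup.index_eq_card, hidx])
  · refine eq_neg_one_of_trace hz1 ?_ ?_
    · rw [← map_mul]
      convert map_one R using 2
      exact Subtype.ext (SemidirectProduct.ext (by simp [z_sq hz]) (by simp))
    · rw [show LinearMap.trace ℂ (Fin d → ℂ) (R ⟨SemidirectProduct.inl z, by simp⟩) =
        R.character ⟨SemidirectProduct.inl z, by simp⟩ from rfl, hR',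
        show φN ⟨SemidirectProduct.inl z, by simp⟩ = SemidirectProduct.inl z from
          SemidirectProduct.ext rfl rfl, hv, hd1, Module.finrank_fin_fun]
  · rw [hd1] at hd
    exact_mod_cast hd
  · intro p n
    have hconj : ∀ n, R.character (MulAut.conjNormal (SemidirectProduct.inr s : E ⋊[f] S) n) =
        R.character n := by
      intro n
      rw [hR', hR']
      let α : MulAut (E ⋊[f.comp S₁.subtype] S₁) :=
        SemidirectProduct.congr (f s) (MulAut.conjNormal s) fun a => MulEquiv.ext fun x => by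
          show f s (f a x) = f ((MulAut.conjNormal s a : S₁) : S) (f s x)
          rw [← MulAut.mul_apply, ← MulAut.mul_apply, ← map_mul, ← map_mul]
          congr 2
          simp [MulAut.conjNormal_apply, mul_assoc]
      have hα : φN (MulAut.conjNormal (SemidirectProduct.inr s : E ⋊[f] S) n) = α (φN n) := by
        refine SemidirectProduct.ext ?_ (Subtype.ext ?_)
        · show ((SemidirectProduct.inr s : E ⋊[f] S) * n.1 * (SemidirectProduct.inr s)⁻¹).left = f s n.1.left
          simp
        · show ((SemidirectProduct.inr s : E ⋊[f] S) * n.1 * (SemidirectProduct.inr s)⁻¹).right =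
            s * n.1.right * s⁻¹
          simp
      rw [hα]
      have h1 : ∀ x, χ (α x) =
          indFun (halfTop (f.comp S₁.subtype) h' hst')
            (fun p => (halfHom (f.comp S₁.subtype) hK hn₁ h' hst' p : ℂ)) x := by
        intro x
        refine indFun_aut α (fun y => ?_) _ _ (fun y hy => ?_) x
        · exact (mem_eSub_act hse' y.left).symm
        · show ((sgn _ : ℂˣ) : ℂ) = ((sgn _ : ℂˣ) : ℂ)
          congr 2
          exact Subtype.ext (h'.norm_map hK h (f s) (hnorm s) hse' ⟨y.left, hy⟩ _).symm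
      rw [h1, hχ, half_eq hz hz1 (f.comp S₁.subtype) hK hn₁ h h' hst hst']
    by_cases hg : p.right ∈ S₁
    · rw [show MulAut.conjNormal p n = (⟨p, hg⟩ : ↥(S₁.comap (SemidirectProduct.rightHom (φ := f)))) * n *
          (⟨p, hg⟩ : ↥(S₁.comap (SemidirectProduct.rightHom (φ := f))))⁻¹ from
        Subtype.ext (by simp [MulAut.conjNormal_apply]), Representation.char_conj]
    · have hs' : s ∉ S₁ := hs
      have hg' : p * (SemidirectProduct.inr s : E ⋊[f] S)⁻¹ ∈
          S₁.comap (SemidirectProduct.rightHom (φ := f)) := by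
        show (p * (SemidirectProduct.inr s : E ⋊[f] S)⁻¹).right ∈ S₁
        rw [SemidirectProduct.mul_right, SemidirectProduct.inv_right, SemidirectProduct.right_inr,
          Subgroup.mul_mem_iff_of_index_two hidx, inv_mem_iff]
        exact iff_of_false hg hs'
      rw [show MulAut.conjNormal p n = (⟨_, hg'⟩ : ↥(S₁.comap (SemidirectProduct.rightHom (φ := f)))) *
          MulAut.conjNormal (SemidirectProduct.inr s : E ⋊[f] S) n *
          (⟨_, hg'⟩ : ↥(S₁.comap (SemidirectProduct.rightHom (φ := f))))⁻¹ from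
        Subtype.ext (by simp [MulAut.conjNormal_apply, mul_assoc]), Representation.char_conj, hconj]

end Cfsg.Agent.Lib.ExtendExtraTwo
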