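import Cfsg.Agent.Lib.ExtendExtraTwo.Basic
import Cfsg.Agent.Lib.CharExt.Obstruction
import Cfsg.Agent.Lib.Chars.Completeness
import Cfsg.Agent.Lib.Chars.Induced

/-!
Faithful irreducible representations of an extraspecial `2`-group and their extensions to semidirect products.
-/

set_option autoImplicit false

namespace Cfsg.Agent.Lib.ExtendExtraTwo

open Subgroup Cfsg.Agent.Lib.ExtraStruct Cfsg.Agent.Lib.ExtraTwoCoord Cfsg
open scoped commutatorElement ComplexConjugate

universe u v w

variable {E : Type u} [Group E]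

/-- A representation of `E` with `z ↦ -1` of the least possible degree. -/
structure Good (z : E) {V : Type w} [AddCommGroup V] [Module ℂ V] (σ : Representation ℂ E V) : Prop where
  map_z : σ z = -1
  degree : 2 * Module.finrank ℂ V ^ 2 = Nat.card E

/-- The representation extends to `E ⋊[f] S`. -/
def Ext (z : E) {S : Type v} [Group S] (f : S →* MulAut E) : Prop :=
  ∃ (d : ℕ) (ρ : Representation ℂ (E ⋊[f] S) (Fin d → ℂ)),
    Good z (ρ.comp SemidirectProduct.inl : Representation ℂ E (Fin d → ℂ))

variable [hE : Fact (ExtraLike 2 E)] [Finite E] {z : E} (hz : z ∈ center E) (hz1 : z ≠ 1)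
include hz hz1

theorem center_cases {c : E} (hc : c ∈ center E) : c = 1 ∨ c = z := by
  have := fact_two
  rcases eq_or_ne c 1 with h | h
  · exact Or.inl h
  · exact Or.inr (eq_of_mem_center_two hE.out hc h hz hz1)

omit hz1 in
theorem z_sq : z * z = 1 := by
  have := fact_two
  exact center_sq hE.out hz

variable {V : Type w} [AddCommGroup V] [Module ℂ V] [FiniteDimensional ℂ V] {σ : Representation ℂ E V}

omit hz hz1 hE [Finite E] in
theorem Good.char_z (h : Good z σ) : σ.character z = -(Module.finrank ℂ V : ℂ) := by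
  rw [Representation.character, h.map_z, map_neg, LinearMap.trace_one]

theorem vanish_of_map_z (hm : σ z = -1) {x : E} (hx : x ∉ center E) : σ.character x = 0 := by
  rw [mem_center_iff] at hx
  push Not at hx
  obtain ⟨y, hy⟩ := hx
  have hc1 : ⁅y, x⁆ ≠ 1 := fun e => hy (commutatorElement_eq_one_iff_mul_comm.1 e)
  have hc : ⁅y, x⁆ = z := (center_cases hz hz1 (hE.out.comm_mem y x)).resolve_left hc1
  have h1 : σ.character (y * x * y⁻¹) = σ.character x := Representation.char_conj σ x y
  rw [show y * x * y⁻¹ = z * x by rw [← hc, commutatorElement_def]; group] at h1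
  simp only [Representation.character, map_mul, hm, neg_mul, one_mul, map_neg] at h1 ⊢
  linear_combination (-(1 : ℂ) / 2) * h1

theorem Good.vanish (h : Good z σ) {x : E} (hx : x ∉ center E) : σ.character x = 0 :=
  vanish_of_map_z hz hz1 h.map_z hx

theorem Good.inner_self [Fintype E] (h : Good z σ) : classInner σ.character σ.character = 1 := by
  classical
  have hsub : (Finset.univ : Finset E).filter (fun x => x ∈ center E) = {1, z} := by
    ext x
    simp only [Finset.mem_filter, Finset.mem_univ, true_and, Finset.mem_insert, Finset.mem_singleton]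
    exact ⟨center_cases hz hz1, fun h => h.elim (fun e => e ▸ one_mem _) (fun e => e ▸ hz)⟩
  rw [classInner, ← Finset.sum_filter_add_sum_filter_not Finset.univ (fun x => x ∈ center E), hsub,
    Finset.sum_eq_zero (s := Finset.univ.filter fun x => x ∉ center E)
      (fun x hx => by rw [h.vanish hz hz1 (Finset.mem_filter.1 hx).2, zero_mul]),
    add_zero, Finset.sum_pair hz1.symm, Representation.char_one, h.char_z]
  simp only [map_neg, Complex.conj_natCast]
  rw [inv_mul_eq_one₀ Chars.natCard_ne_zero, ← h.degree]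
  push_cast
  ring

omit hz hz1 hE [FiniteDimensional ℂ V] in
theorem Good.nontrivial (h : Good z σ) : Nontrivial V := by
  refine Module.nontrivial_of_finrank_pos (R := ℂ) (Nat.pos_of_ne_zero fun h0 => ?_)
  have := h.degree
  rw [h0] at this
  exact Nat.card_pos.ne (by simpa using this)

theorem Good.irreducible (h : Good z σ) : σ.IsIrreducible := by
  classical
  let := Fintype.ofFinite E
  have hchar : IsCharacter E σ.character := Chars.isCharacter_of_rep σ
  obtain ⟨n, τ, hτ, hτc⟩ := (Chars.isIrrCharacter_iff_classInner_eq_one hchar).2 (h.inner_self hz hz1)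
  obtain ⟨e⟩ := CharExt.nonempty_equiv_of_char_eq τ σ hτc.symm
  exact Chars.isIrreducible_of_equiv e

theorem Good.char_eq (h : Good z σ) {W : Type*} [AddCommGroup W] [Module ℂ W] [FiniteDimensional ℂ W]
    {τ : Representation ℂ E W} (h' : Good z τ) : τ.character = σ.character := by
  have hd : Module.finrank ℂ W = Module.finrank ℂ V := by
    have h1 := h.degree
    rw [← h'.degree] at h1
    exact Nat.pow_left_injective two_ne_zero (Nat.eq_of_mul_eq_mul_left two_pos h1).symm
  funext x
  by_cases hx : x ∈ center E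
  · rcases center_cases hz hz1 hx with rfl | rfl
    · rw [Representation.char_one, Representation.char_one, hd]
    · rw [h.char_z, h'.char_z, hd]
  · rw [h.vanish hz hz1 hx, h'.vanish hz hz1 hx]

omit hE hz in
theorem exists_good_aux : ∃ χ : IrrCharacter E, (χ : E → ℂ) z ≠ (χ : E → ℂ) 1 := by
  classical
  let := Fintype.ofFinite E
  by_contra! h
  have h1 := Chars.sum_degree_mul_irr (G := E) z
  simp only [h, ← sq] at h1
  rw [Chars.sum_degree_sq, if_neg hz1] at h1
  exact Chars.natCard_ne_zero h1

theorem good_of_irr (χ : IrrCharacter E) (hχ : (χ : E → ℂ) z ≠ (χ : E → ℂ) 1) :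
    ∃ (d : ℕ) (σ : Representation ℂ E (Fin d → ℂ)), Good z σ ∧ σ.character = (χ : E → ℂ) := by
  classical
  let := Fintype.ofFinite E
  obtain ⟨d, σ, hσ, hσc⟩ := χ.2
  have := hσ
  have := Chars.nontrivial_of_isIrreducible σ
  obtain ⟨c, hc⟩ := Chars.exists_scalar_of_commute σ (σ z) fun g => by
    rw [← Module.End.mul_eq_comp, ← Module.End.mul_eq_comp, ← map_mul, ← map_mul, mem_center_iff.1 hz g]
  have hc2 : c * c = 1 := by
    have h : σ z * σ z = 1 := by rw [← map_mul, z_sq hz, map_one]
    rw [hc, smul_mul_smul_comm, one_mul] at h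
    have h' := congrArg (LinearMap.trace ℂ (Fin d → ℂ)) h
    rw [map_smul, smul_eq_mul, LinearMap.trace_one] at h'
    exact (mul_eq_right₀ (Nat.cast_ne_zero.2 Module.finrank_pos.ne')).1 h'
  have hcm : c = -1 := (mul_self_eq_one_iff.1 hc2).resolve_left fun h => hχ (by
    rw [← hσc, Representation.character, Representation.character, hc, h, one_smul, ← map_one σ])
  have hmap : σ z = -1 := by rw [hc, hcm]; exact neg_one_smul ℂ (1 : Module.End ℂ (Fin d → ℂ))
  refine ⟨d, σ, ⟨hmap, ?_⟩, hσc⟩
  have hinner := Chars.classInner_irr_self χ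
  rw [← hσc] at hinner
  have hvan : ∀ x, x ∉ center E → σ.character x = 0 := fun x hx => vanish_of_map_z hz hz1 hmap hx
  have hsub : (Finset.univ : Finset E).filter (fun x => x ∈ center E) = {1, z} := by
    ext x
    simp only [Finset.mem_filter, Finset.mem_univ, true_and, Finset.mem_insert, Finset.mem_singleton]
    exact ⟨center_cases hz hz1, fun h => h.elim (fun e => e ▸ one_mem _) (fun e => e ▸ hz)⟩
  rw [classInner, ← Finset.sum_filter_add_sum_filter_not Finset.univ (fun x => x ∈ center E), hsub,
    Finset.sum_eq_zero (s := Finset.univ.filter fun x => x ∉ center E)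
      (fun x hx => by rw [hvan x (Finset.mem_filter.1 hx).2, zero_mul]),
    add_zero, Finset.sum_pair hz1.symm, Representation.char_one] at hinner
  simp only [Representation.character, hmap, map_neg, LinearMap.trace_one, Complex.conj_natCast,
    inv_mul_eq_one₀ Chars.natCard_ne_zero] at hinner
  have h2 : ((2 * Module.finrank ℂ (Fin d → ℂ) ^ 2 : ℕ) : ℂ) = (Nat.card E : ℂ) := by
    rw [hinner]; push_cast; ring
  exact_mod_cast h2

theorem exists_good : ∃ (d : ℕ) (σ : Representation ℂ E (Fin d → ℂ)), Good z σ := by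
  classical
  let := Fintype.ofFinite E
  obtain ⟨χ, hχ⟩ := exists_good_aux hz1
  obtain ⟨d, σ, hσ, -⟩ := good_of_irr hz hz1 χ hχ
  exact ⟨d, σ, hσ⟩

omit hE hz in
/-- An involution of trace minus the dimension is minus the identity. -/
theorem eq_neg_one_of_trace {T : Module.End ℂ V} (h2 : T * T = 1)
    (ht : LinearMap.trace ℂ V T = -(Module.finrank ℂ V : ℂ)) : T = -1 := by
  let P : Module.End ℂ V := (2⁻¹ : ℂ) • (1 + T)
  have hP : P * P = P := by
    simp only [P, smul_mul_smul_comm, add_mul, mul_add, one_mul, mul_one, h2]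
    rw [show (1 : Module.End ℂ V) + T + (T + 1) = (2 : ℂ) • (1 + T) by rw [two_smul]; abel, smul_smul]
    norm_num
  have hproj : LinearMap.IsProj (LinearMap.range P) P :=
    ⟨fun x => LinearMap.mem_range_self _ x, fun x hx => by
      obtain ⟨y, rfl⟩ := hx
      exact LinearMap.congr_fun hP y⟩
  have h0 : (Module.finrank ℂ (LinearMap.range P) : ℂ) = 0 := by
    rw [← hproj.trace, map_smul, map_add, LinearMap.trace_one, ht, add_neg_cancel, smul_zero]
  have hbot : LinearMap.range P = ⊥ := Submodule.finrank_eq_zero.1 (by exact_mod_cast h0)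
  have hP0 : P = 0 := LinearMap.range_eq_bot.1 hbot
  have h3 : (1 : Module.End ℂ V) + T = 0 := by
    have h4 := congrArg (fun x : Module.End ℂ V => (2 : ℂ) • x) hP0
    simpa [P, smul_smul] using h4
  exact eq_neg_of_add_eq_zero_right h3

/-- A character with the values of an extension gives one. -/
theorem ext_of_character {S : Type v} [Group S] (f : S →* MulAut E) {χ : E ⋊[f] S → ℂ}
    (hχ : IsCharacter (E ⋊[f] S) χ) (hzv : χ (SemidirectProduct.inl z) = -χ 1)
    (hd : 2 * χ 1 ^ 2 = (Nat.card E : ℂ)) : Ext z f := by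
  obtain ⟨d, ρ, rfl⟩ := hχ
  refine ⟨d, ρ, ?_, ?_⟩
  · refine eq_neg_one_of_trace hz1 ?_ ?_
    · show ρ (SemidirectProduct.inl z) * ρ (SemidirectProduct.inl z) = 1
      rw [← map_mul, ← map_mul, z_sq hz, map_one, map_one]
    · show ρ.character (SemidirectProduct.inl z) = _
      rw [hzv, Representation.char_one]
  · rw [Representation.char_one] at hd
    exact_mod_cast hd

/-- Extending an invariant extension through a cyclic quotient. -/
theorem ext_of_cyclic {S : Type v} [Group S] [Finite S] (f : S →* MulAut E) (S₁ : Subgroup S)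
    [hS₁ : S₁.Normal] [hcyc : IsCyclic (S ⧸ S₁)] {d : ℕ}
    (R : Representation ℂ ↥(S₁.comap (SemidirectProduct.rightHom (φ := f))) (Fin d → ℂ))
    (hR : R ⟨SemidirectProduct.inl z, by simp⟩ = -1) (hd : 2 * d ^ 2 = Nat.card E)
    (hinv : ∀ (g : E ⋊[f] S) (n : ↥(S₁.comap (SemidirectProduct.rightHom (φ := f)))),
      R.character (MulAut.conjNormal g n) = R.character n) : Ext z f := by
  have hfin : Finite (E ⋊[f] S) := Finite.of_equiv _ SemidirectProduct.equivProd.symm
  let incl : E →* ↥(S₁.comap (SemidirectProduct.rightHom (φ := f))) :=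
    SemidirectProduct.inl.codRestrict _ fun e => by simp
  have hgood : Good z (R.comp incl : Representation ℂ E (Fin d → ℂ)) :=
    ⟨hR, by rw [Module.finrank_fin_fun]; exact hd⟩
  have hirr : R.IsIrreducible := CharExt.isIrreducible_of_comp incl R (hgood.irreducible hz hz1)
  let ψ : E ⋊[f] S →* S ⧸ S₁ := (QuotientGroup.mk' S₁).comp SemidirectProduct.rightHom
  have hψker : ψ.ker = S₁.comap (SemidirectProduct.rightHom (φ := f)) := by
    rw [← MonoidHom.comap_ker, QuotientGroup.ker_mk']
  have hψsurj : Function.Surjective ψ :=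
    (QuotientGroup.mk'_surjective S₁).comp SemidirectProduct.rightHom_surjective
  have : IsCyclic ((E ⋊[f] S) ⧸ S₁.comap (SemidirectProduct.rightHom (φ := f))) :=
    isCyclic_of_surjective ((QuotientGroup.quotientMulEquivOfEq hψker).toMonoidHom.comp
      (QuotientGroup.quotientKerEquivOfSurjective ψ hψsurj).symm.toMonoidHom)
      ((QuotientGroup.quotientMulEquivOfEq hψker).surjective.comp
        (QuotientGroup.quotientKerEquivOfSurjective ψ hψsurj).symm.surjective)
  obtain ⟨ρ, hρ⟩ := CharExt.exists_extension_of_isCyclic _ R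
    (CharExt.projG_surjective_of_invariant _ R hinv)
  refine ⟨d, ρ, ?_, by rw [Module.finrank_fin_fun]; exact hd⟩
  exact (hρ (incl z)).trans (hR)

end Cfsg.Agent.Lib.ExtendExtraTwo
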